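/-
A concrete field with four elements, with operations that reduce well in the kernel.
-/
import Mathlib

set_option autoImplicit false

namespace Cfsg.Agent.H50.LinFour

/-- the field with four elements -/
inductive K4 : Type
  | o | e | w | v
  deriving DecidableEq, Repr

namespace K4

instance : Fintype K4 := ⟨{o, e, w, v}, fun x => by cases x <;> decide⟩

instance : Zero K4 := ⟨o⟩
instance : One K4 := ⟨e⟩
instance : Add K4 :=
  ⟨fun x y => match x, y with
    | o, y => y
    | x, o => x
    | e, e => o | e, w => v | e, v => w
    | w, e => v | w, w => o | w, v => e
    | v, e => w | v, w => e | v, v => o⟩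
instance : Neg K4 := ⟨fun x => x⟩
instance : Mul K4 :=
  ⟨fun x y => match x, y with
    | o, _ => o
    | _, o => o
    | e, y => y
    | x, e => x
    | w, w => v | w, v => e
    | v, w => e | v, v => w⟩
instance : Inv K4 := ⟨fun x => match x with | o => o | e => e | w => v | v => w⟩

set_option synthInstance.maxHeartbeats 100000 in
instance : CommRing K4 where
  add_assoc := by decide +kernel
  zero_add := by decide +kernel
  add_zero := by decide +kernel
  add_comm := by decide +kernel
  mul_assoc := by decide +kernel
  one_mul := by decide +kernel
  mul_one := by decide +kernel
  mul_comm := by decide +kernel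
  zero_mul := by decide +kernel
  mul_zero := by decide +kernel
  left_distrib := by decide +kernel
  right_distrib := by decide +kernel
  neg_add_cancel := by decide +kernel
  nsmul := nsmulRec
  zsmul := zsmulRec

instance : Field K4 where
  exists_pair_ne := ⟨o, e, by decide⟩
  mul_inv_cancel := by decide +kernel
  inv_zero := rfl
  nnqsmul := _
  qsmul := _

theorem card : Fintype.card K4 = 4 := rfl

instance : CharP K4 2 := CharTwo.of_one_ne_zero_of_two_eq_zero (by decide) (by decide +kernel)

theorem cube {x : K4} (h : x ≠ 0) : x * x * x = 1 := by revert x; decide +kernel

end K4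

end Cfsg.Agent.H50.LinFour
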