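/-
Every stem kernel over the projective special linear group of degree 3 over the field with four
elements is an image of `ℤ/3 × ℤ/4 × ℤ/4`.
-/
import Cfsg.Agent.H92.L34Cover
import Cfsg.Agent.H50.MultiplierBound
import Cfsg.Agent.Linear.Simple

set_option autoImplicit false

namespace Cfsg.Agent.H50.LinFour

open Subgroup
open scoped commutatorElement

/-- commutators of lifts have exponent four over a group with central squares -/
theorem pow_four_eq_one {P Q : Type*} [Group P] [Group Q] (π : P →* Q) (hk : π.ker ≤ center P)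
    (hπ : Function.Surjective π) (hsq : ∀ u : Q, u * u ∈ commutator Q) (hc : commutator Q ≤ center Q) :
    ∀ z ∈ commutator P, z ^ 4 = 1 := by
  -- lifts of central elements centralise the derived group
  have hW : ∀ w : P, π w ∈ center Q → ∀ z ∈ commutator P, z * w = w * z := by
    intro w hw
    have hz : ∀ y, ⁅w, y⁆ ∈ center P := fun y => hk (by
      rw [MonoidHom.mem_ker, map_commutatorElement, commutatorElement_eq_one_iff_mul_comm]
      exact (mem_center_iff.1 hw _).symm)
    let f : P →* center P :=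
      { toFun := fun y => ⟨⁅w, y⁆, hz y⟩
        map_one' := Subtype.ext (commutatorElement_one_right w)
        map_mul' := fun y y' => Subtype.ext (by
          have h1 : ⁅w, y * y'⁆ = ⁅w, y⁆ * (y * ⁅w, y'⁆ * y⁻¹) := by
            simp only [commutatorElement_def]; group
          show ⁅w, y * y'⁆ = ⁅w, y⁆ * ⁅w, y'⁆
          rw [h1, mem_center_iff.1 (hz y') y, mul_inv_cancel_right]) }
    let _ : CommGroup (center P) := { (inferInstance : Group (center P)) with
      mul_comm := fun a b => Subtype.ext (mem_center_iff.1 b.2 a) }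
    intro z hzc
    have := MonoidHom.mem_ker.1 (Abelianization.commutator_subset_ker f hzc)
    exact (commutatorElement_eq_one_iff_mul_comm.1 (congrArg Subtype.val this)).symm
  have himg : (commutator P).map π = commutator Q := by
    rw [map_commutator_eq, MonoidHom.range_eq_top.2 hπ, ← _root_.commutator_def]
  have hcom : ∀ z ∈ commutator P, ∀ w ∈ commutator P, z * w = w * z := fun z hz w hw =>
    hW w (hc (himg ▸ mem_map_of_mem π hw)) z hz
  -- generators have exponent four
  have hgen : ∀ a b : P, ⁅a, b⁆ ^ 4 = 1 := by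
    intro a b
    set c := ⁅a, b⁆ with hcdef
    have hcP : c ∈ commutator P := commutator_mem_commutator (mem_top a) (mem_top b)
    have hac : ⁅a, c⁆ ∈ π.ker := by
      rw [MonoidHom.mem_ker, map_commutatorElement, commutatorElement_eq_one_iff_mul_comm]
      exact mem_center_iff.1 (hc (himg ▸ mem_map_of_mem π hcP)) _
    -- bilinearity against squares
    have sqc : ∀ g x : P, π x ∈ center Q → π g * π g ∈ commutator Q → ⁅g, x⁆ * ⁅g, x⁆ = ⁅g * g, x⁆ := by
      intro g x hx _
      have hgx : ⁅g, x⁆ ∈ center P := hk (by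
        rw [MonoidHom.mem_ker, map_commutatorElement, commutatorElement_eq_one_iff_mul_comm]
        exact mem_center_iff.1 hx _)
      calc ⁅g, x⁆ * ⁅g, x⁆ = g * ⁅g, x⁆ * g⁻¹ * ⁅g, x⁆ := by
            rw [mem_center_iff.1 hgx g, mul_inv_cancel_right]
        _ = ⁅g * g, x⁆ := by simp only [commutatorElement_def]; group
    -- a lift of a square is a commutator element times a central one
    have hlift : ∀ g : P, ∀ x, π x ∈ center Q → x ∈ commutator P → ⁅g * g, x⁆ = 1 := by
      intro g x hx hxc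
      refine commutatorElement_eq_one_iff_mul_comm.2 (hW (g * g) ?_ x hxc).symm
      rw [map_mul]; exact hc (hsq _)
    have hac2 : ⁅a, c⁆ * ⁅a, c⁆ = 1 := by
      have hcz := hc (himg ▸ mem_map_of_mem π hcP)
      rw [sqc a c hcz (hsq _), hlift a c hcz hcP]
    have hd : ⁅a * a, b⁆ = a * c * a⁻¹ * c := by
      simp only [hcdef, commutatorElement_def]; group
    have hd2 : ⁅a * a, b⁆ * ⁅a * a, b⁆ = 1 := by
      have hak : π (a * a) ∈ center Q := by rw [map_mul]; exact hc (hsq _)
      have hk1 : ⁅a * a, b⁆ ∈ center P := hk (by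
        rw [MonoidHom.mem_ker, map_commutatorElement, commutatorElement_eq_one_iff_mul_comm]
        exact (mem_center_iff.1 hak _).symm)
      obtain ⟨e, he, hee⟩ : ∃ e ∈ commutator P, π e = π (a * a) := by
        have := hsq (π a)
        rw [← map_mul, ← himg] at this
        exact this
      have e1 : ⁅a * a, b * b⁆ = ⁅a * a, b⁆ * ⁅a * a, b⁆ := by
        calc ⁅a * a, b * b⁆ = ⁅a * a, b⁆ * (b * ⁅a * a, b⁆ * b⁻¹) := by
              simp only [commutatorElement_def]; group
          _ = _ := by rw [mem_center_iff.1 hk1 b, mul_inv_cancel_right]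
      have hkk : e⁻¹ * (a * a) ∈ center P := hk (by
        rw [MonoidHom.mem_ker, map_mul, map_inv, hee, inv_mul_cancel])
      have hbz : π (b * b) ∈ center Q := by rw [map_mul]; exact hc (hsq _)
      rw [← e1]
      refine commutatorElement_eq_one_iff_mul_comm.2 ?_
      have h3 : e * (b * b) = b * b * e := hW (b * b) hbz e he
      calc a * a * (b * b) = e * ((e⁻¹ * (a * a)) * (b * b)) := by group
        _ = e * ((b * b) * (e⁻¹ * (a * a))) := by rw [mem_center_iff.1 hkk (b * b)]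
        _ = e * (b * b) * (e⁻¹ * (a * a)) := by group
        _ = b * b * e * (e⁻¹ * (a * a)) := by rw [h3]
        _ = b * b * (a * a) := by group
    have hacc : Commute ⁅a, c⁆ c := (mem_center_iff.1 (hk hac) c).symm
    have e2 : a * c * a⁻¹ * c = ⁅a, c⁆ * (c * c) := by simp only [commutatorElement_def]; group
    rw [hd, e2] at hd2
    have e3 : ⁅a, c⁆ * (c * c) * (⁅a, c⁆ * (c * c)) = ⁅a, c⁆ * ⁅a, c⁆ * c ^ 4 := by
      calc _ = ⁅a, c⁆ * ((c * c) * ⁅a, c⁆) * (c * c) := by group
        _ = ⁅a, c⁆ * (⁅a, c⁆ * (c * c)) * (c * c) := by rw [((hacc.mul_right hacc)).eq]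
        _ = _ := by simp only [pow_succ, pow_zero, one_mul, mul_assoc]
    rw [e3, hac2, one_mul] at hd2
    exact hd2
  let K : Subgroup P :=
    { carrier := {z | z ∈ commutator P ∧ z ^ 4 = 1}
      one_mem' := ⟨one_mem _, one_pow _⟩
      mul_mem' := fun {x y} hx hy => ⟨mul_mem hx.1 hy.1, by
        rw [Commute.mul_pow (hcom x hx.1 y hy.1), hx.2, hy.2, one_mul]⟩
      inv_mem' := fun {x} hx => ⟨inv_mem hx.1, by rw [inv_pow, hx.2, inv_one]⟩ }
  have hle : commutator P ≤ K := by
    rw [_root_.commutator_def, commutator_le]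
    exact fun a _ b _ => ⟨commutator_mem_commutator (mem_top a) (mem_top b), hgen a b⟩
  exact fun z hz => (hle hz).2

theorem exists_zmod_hom {K : Type*} [CommGroup K] {n : ℕ} (g : K) (hg : g ^ n = 1) :
    ∃ k : Multiplicative (ZMod n) →* K, k (Multiplicative.ofAdd 1) = g := by
  refine ⟨(ZMod.lift n ⟨zmultiplesHom (Additive K) (Additive.ofMul g), ?_⟩).toMultiplicativeLeft, ?_⟩
  · rw [zmultiplesHom_apply, natCast_zsmul, ← ofMul_pow, hg]; rfl
  · show Additive.toMul ((ZMod.lift n _) (1 : ZMod n)) = g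
    rw [← Int.cast_one, ZMod.lift_coe]
    simp

variable {F : Type} [Field F] [Fintype F]

local notation "L" => Matrix.ProjectiveSpecialLinearGroup (Fin 3) F

open H92.L34 in
theorem two_group_props (hF : Fintype.card F = 4) :
    (∀ u : ↥(U (F := F)), u * u ∈ commutator ↥(U (F := F))) ∧
      commutator ↥(U (F := F)) ≤ center ↥(U (F := F)) := by
  have := charP_two hF
  have h2 : ∀ x : F, x + x = 0 := CharTwo.add_self_eq_zero
  let Z : Subgroup ↥(U (F := F)) :=
    { carrier := {u | ∃ c, (u : L) = m 0 0 c}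
      one_mem' := ⟨0, m_zero.symm⟩
      mul_mem' := by
        rintro x y ⟨c, hc⟩ ⟨d, hd⟩
        exact ⟨c + d, by rw [Subgroup.coe_mul, hc, hd, m_mul]; simp⟩
      inv_mem' := by
        rintro x ⟨c, hc⟩
        refine ⟨c, ?_⟩
        rw [Subgroup.coe_inv, hc]
        exact inv_eq_of_mul_eq_one_right (by rw [m_mul]; simp [h2, m_zero]) }
  have hZc : Z ≤ center ↥(U (F := F)) := by
    rintro x ⟨c, hc⟩
    rw [mem_center_iff]
    rintro ⟨_, a, b, d, rfl⟩
    refine Subtype.ext ?_
    simp only [Subgroup.coe_mul, hc, m_mul]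
    congr 1 <;> simp [add_comm]
  have hcZ : commutator ↥(U (F := F)) ≤ Z := by
    rw [_root_.commutator_def, commutator_le]
    rintro ⟨_, a, b, d, rfl⟩ - ⟨_, a', b', d', rfl⟩ -
    refine ⟨a * b' + a' * b, ?_⟩
    simp only [commutatorElement_def, Subgroup.coe_mul, Subgroup.coe_inv]
    rw [mul_inv_eq_iff_eq_mul, mul_inv_eq_iff_eq_mul, m_mul, m_mul, m_mul]
    congr 1 <;> simp
    · exact add_comm _ _
    · exact add_comm _ _
    · linear_combination (-(a' * b)) * (CharTwo.two_eq_zero (R := F))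
  refine ⟨?_, hcZ.trans hZc⟩
  rintro ⟨_, a, b, d, rfl⟩
  have e : (⟨m a b d, a, b, d, rfl⟩ : ↥(U (F := F))) * ⟨m a b d, a, b, d, rfl⟩ =
      ⁅(⟨m a 0 0, a, 0, 0, rfl⟩ : ↥(U (F := F))), ⟨m 0 b 0, 0, b, 0, rfl⟩⁆ := by
    refine Subtype.ext ?_
    simp only [commutatorElement_def, Subgroup.coe_mul, Subgroup.coe_inv]
    rw [eq_mul_inv_iff_mul_eq, eq_mul_inv_iff_mul_eq, m_mul, m_mul, m_mul, m_mul]
    congr 1 <;> simp [h2]
  rw [e]
  exact commutator_mem_commutator (mem_top _) (mem_top _)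

theorem exists_surjective (hF : Fintype.card F = 4) {Γ : Type} [Group Γ] [Finite Γ] {σ : Γ →* L}
    (hσ : IsStemExtension σ) :
    ∃ f : Multiplicative (ZMod 3 × ZMod 4 × ZMod 4) →* σ.ker, Function.Surjective f := by
  classical
  let _ : CommGroup σ.ker := { (inferInstance : Group σ.ker) with
    mul_comm := fun a b => Subtype.ext (mem_center_iff.1 (hσ.2.1 b.2) a) }
  have hL : Nat.card L = 20160 := by
    have h := (center (Matrix.SpecialLinearGroup (Fin 3) F)).card_eq_card_quotient_mul_card_subgroup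
    rw [Cfsg.Agent.Linear.card_SL_three, hF] at h
    have hc : Nat.card (center (Matrix.SpecialLinearGroup (Fin 3) F)) = 3 := by
      rw [Nat.card_congr (Matrix.SpecialLinearGroup.center_equiv_rootsOfUnity (n := Fin 3) (R := F)).toEquiv]
      have h' : rootsOfUnity (max (Fintype.card (Fin 3)) 1) F = ⊤ := by
        refine eq_top_iff.2 fun u _ => Units.ext ?_
        simp only [Fintype.card_fin, Units.val_pow_eq_pow_val, Units.val_one]
        have := FiniteField.pow_card_sub_one_eq_one (u : F) u.ne_zero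
        rwa [hF] at this
      rw [h', Nat.card_congr Subgroup.topEquiv.toEquiv, Nat.card_units, Nat.card_eq_fintype_card, hF]
    rw [hc, show 4 ^ 3 * (4 ^ 3 - 1) * (4 ^ 2 - 1) = 60480 by norm_num] at h
    show Nat.card (Matrix.SpecialLinearGroup (Fin 3) F ⧸ center (Matrix.SpecialLinearGroup (Fin 3) F)) = _
    omega
  -- exponent of the 2-part
  have h4 : ∀ z ∈ σ.ker, ∀ k : ℕ, z ^ 2 ^ k = 1 → z ^ 4 = 1 := by
    intro z hz k hzk
    have hco : (2 ^ k).Coprime (H92.L34.U (F := F)).index :=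
      ((Nat.prime_two.coprime_iff_not_dvd).2 (Nat.two_dvd_ne_zero.2
        (Nat.odd_iff.1 (H92.L34.odd_index_U hF)))).pow_left k
    obtain ⟨hzQ, hc⟩ := mem_commutator_comap hσ _ hco z hz hzk
    obtain ⟨hsq, hcen⟩ := two_group_props (F := F) hF
    have := pow_four_eq_one (σ.subgroupComap (H92.L34.U (F := F)))
      (fun x hx => mem_center_iff.2 fun g => Subtype.ext (mem_center_iff.1
        (hσ.2.1 (show (x : Γ) ∈ σ.ker from congrArg Subtype.val (MonoidHom.mem_ker.1 hx))) g))
      (MonoidHom.subgroupComap_surjective_of_surjective σ _ hσ.1) hsq hcen _ hc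
    simpa using congrArg Subtype.val this
  -- the 3-part
  obtain ⟨P⟩ : Nonempty (Sylow 3 L) := inferInstance
  have hP9 : Nat.card (P : Subgroup L) = 9 := by
    have : Fact (Nat.Prime 3) := ⟨Nat.prime_three⟩
    obtain ⟨n, hn⟩ := IsPGroup.iff_card.1 P.isPGroup'
    have hm := (P : Subgroup L).card_mul_index
    rw [hn, hL] at hm
    have hnd := P.not_dvd_index
    rcases Nat.lt_or_ge n 3 with h3 | h3
    · rw [hn]
      interval_cases n <;> omega
    · exfalso
      obtain ⟨j, rfl⟩ := Nat.exists_eq_add_of_le h3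
      rw [pow_add, mul_assoc] at hm
      omega
  have hP3 : Nat.Coprime 3 (P : Subgroup L).index :=
    (Nat.prime_three.coprime_iff_not_dvd).2 P.not_dvd_index
  obtain ⟨e3, he3, he3', h3⟩ : ∃ e ∈ σ.ker, e ^ 3 = 1 ∧ ∀ z ∈ σ.ker, ∀ k : ℕ, z ^ 3 ^ k = 1 → z ∈ zpowers e := by
    by_cases hcyc : IsCyclic (P : Subgroup L)
    · exact ⟨1, one_mem _, one_pow _, fun z hz k hzk => by
        rw [eq_one_of_rigid_pow hσ _ hP3 (rigidAt_of_isCyclic 3 _) z hz k hzk]
        exact one_mem _⟩
    · have : Fact (Nat.Prime 3) := ⟨Nat.prime_three⟩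
      have hcard : Nat.card (P : Subgroup L) = 3 ^ 2 := hP9.trans (by norm_num)
      have hne : Nontrivial (P : Subgroup L) :=
        Finite.one_lt_card_iff_nontrivial.1 (by rw [hP9]; norm_num)
      obtain ⟨r, hr⟩ := exists_ne (1 : (P : Subgroup L))
      obtain ⟨s, hs⟩ : ∃ s, s ∉ zpowers r := by
        by_contra h
        push Not at h
        exact hcyc ⟨r, fun x => h x⟩
      have hexp : ∀ x : (P : Subgroup L), x ^ 3 = 1 := by
        intro x
        obtain ⟨i, hi, hx⟩ := (Nat.dvd_prime_pow Nat.prime_three).1 (hcard ▸ orderOf_dvd_natCard x)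
        have hi2 : i < 2 := by
          by_contra h
          exact hcyc (isCyclic_of_orderOf_eq_card x (by rw [hx, show i = 2 by omega, hcard]))
        exact orderOf_dvd_iff_pow_eq_one.1 (hx ▸ (pow_dvd_pow 3 (show i ≤ 1 by omega)).trans (by norm_num))
      have hgen : closure ({r, s} : Set (P : Subgroup L)) = ⊤ := by
        have hlt : zpowers r < closure ({r, s} : Set (P : Subgroup L)) := by
          refine lt_of_le_of_ne ?_ fun h => hs (h ▸ subset_closure (by simp))
          rw [zpowers_le]; exact subset_closure (by simp)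
        apply eq_top_of_card_eq
        obtain ⟨i, hi, hi'⟩ := (Nat.dvd_prime_pow Nat.prime_three).1
          (hcard ▸ card_subgroup_dvd_card (closure ({r, s} : Set (P : Subgroup L))))
        have hr3 : Nat.card (zpowers r) = 3 := by
          rw [Nat.card_zpowers]; exact orderOf_eq_prime (hexp r) hr
        have hi2 : i = 2 := by
          by_contra hne
          refine hlt.ne (eq_of_le_of_card_ge hlt.le ?_)
          rw [hi', hr3]
          exact (Nat.pow_le_pow_right (by norm_num) (show i ≤ 1 by omega)).trans (by norm_num)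
        rw [hi', hi2, hcard]
      exact exists_part hσ _ hP3 (cyclicPartAt_abelian r s 3
        (IsPGroup.commutative_of_card_eq_prime_sq hcard r s) (hexp s) hgen)
  -- other primes
  have hoth : ∀ p : ℕ, p.Prime → p ≠ 2 → p ≠ 3 → ∀ z ∈ σ.ker, z ^ p = 1 → z = 1 := by
    intro p hp hp2 hp3 z hz hzp
    refine eq_one_of_sq_not_dvd hσ hp ?_ z hz hzp
    rw [hL]
    intro hd
    have hco : (p ^ 2).Coprime (2 ^ 6 * 3 ^ 2) :=
      Nat.Coprime.mul_right (Nat.Coprime.pow 2 6 ((Nat.coprime_primes hp Nat.prime_two).2 hp2))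
        (Nat.Coprime.pow 2 2 ((Nat.coprime_primes hp Nat.prime_three).2 hp3))
    have h35 : p ^ 2 ∣ 35 := hco.dvd_of_dvd_mul_left (by norm_num; exact hd)
    have h5 : p ≤ 5 := by
      have := Nat.le_of_dvd (by norm_num) h35
      nlinarith
    have := hp.two_le
    interval_cases p <;> first | contradiction | norm_num at h35
  -- the twelfth power vanishes
  have h12 : ∀ z : σ.ker, z ^ 12 = 1 := by
    intro z
    set N := Nat.card σ.ker with hN
    obtain ⟨a, u, hu, hNu⟩ := Nat.exists_eq_pow_mul_and_not_dvd (Nat.card_pos (α := σ.ker)).ne' 2 (by norm_num)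
    have hu0 : u ≠ 0 := by rintro rfl; exact (Nat.card_pos (α := σ.ker)).ne' (by rw [hNu, mul_zero])
    obtain ⟨b, w, hw, huw⟩ := Nat.exists_eq_pow_mul_and_not_dvd hu0 3 (by norm_num)
    have hw1 : w = 1 := by
      by_contra hne
      obtain ⟨p, hp, hpw⟩ := Nat.exists_prime_and_dvd hne
      have := Fact.mk hp
      have hpu : p ∣ u := huw ▸ hpw.mul_left _
      obtain ⟨g, hg⟩ := exists_prime_orderOf_dvd_card' (G := σ.ker) p (hNu ▸ hpu.mul_left _)
      have h1 : (g : Γ) ^ p = 1 := by rw [← SubgroupClass.coe_pow, ← hg, pow_orderOf_eq_one]; rfl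
      have hg1 : g = 1 := Subtype.ext (hoth p hp (fun e => hu (e ▸ hpu)) (fun e => hw (e ▸ hpw)) g g.2 h1)
      rw [hg1, orderOf_one] at hg
      exact hp.one_lt.ne hg
    rw [hw1, mul_one] at huw
    have hzN : (z : Γ) ^ (2 ^ a * u) = 1 := by
      rw [← hNu, ← SubgroupClass.coe_pow, pow_card_eq_one']; rfl
    have hA : ((z : Γ) ^ u) ^ 4 = 1 := h4 _ (pow_mem z.2 u) a (by rw [← pow_mul, mul_comm, hzN])
    have hB : ((z : Γ) ^ 2 ^ a) ^ 3 = 1 := by
      obtain ⟨i, hi⟩ := mem_zpowers_iff.1 (h3 _ (pow_mem z.2 _) b (by rw [← pow_mul, ← huw, hzN]))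
      rw [← hi, ← zpow_natCast, ← zpow_mul, mul_comm, zpow_mul, zpow_natCast, he3', one_zpow]
    refine Subtype.ext ?_
    rw [SubgroupClass.coe_pow, OneMemClass.coe_one]
    have hco : Nat.gcd (u * 4 * 3) (2 ^ a * 3 * 4) ∣ 12 := by
      have hu2 : Nat.Coprime u (2 ^ a) :=
        ((Nat.prime_two.coprime_iff_not_dvd).2 hu).symm.pow_right a
      rw [show u * 4 * 3 = 12 * u by ring, show 2 ^ a * 3 * 4 = 12 * 2 ^ a by ring, Nat.gcd_mul_left,
        hu2.gcd_eq_one]
    refine orderOf_dvd_iff_pow_eq_one.1 ((Nat.dvd_gcd ?_ ?_).trans hco)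
    · rw [orderOf_dvd_iff_pow_eq_one, pow_mul, pow_mul, hA, one_pow]
    · rw [orderOf_dvd_iff_pow_eq_one, pow_mul, pow_mul, hB, one_pow]
  -- two generators modulo squares
  obtain ⟨g1, g2, hg⟩ : ∃ g1 g2 : σ.ker, ∀ z : σ.ker, ∃ i j : ℕ, ∃ w : σ.ker, z = g1 ^ i * g2 ^ j * w * w := by
    let sq : Subgroup Γ := (powMonoidHom 2 : σ.ker →* σ.ker).range.map σ.ker.subtype
    have hsqle : sq ≤ σ.ker := by rintro _ ⟨w, -, rfl⟩; exact w.2
    have hsqn : sq.Normal := ⟨fun n hn g => by
      rw [mem_center_iff.1 (hσ.2.1 (hsqle hn)) g, mul_inv_cancel_right]; exact hn⟩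
    have hker : sq ≤ σ.ker := hsqle
    let ρ : Γ ⧸ sq →* L := QuotientGroup.lift sq σ hker
    have hρk : ∀ x, x ∈ ρ.ker → ∃ z : σ.ker, x = QuotientGroup.mk (z : Γ) := by
      intro x hx
      obtain ⟨z, rfl⟩ := QuotientGroup.mk_surjective x
      exact ⟨⟨z, hx⟩, rfl⟩
    have hperf : commutator Γ = ⊤ := by
      have hG : commutator L = ⊤ := Cfsg.Agent.Linear.commutator_PSL_eq_top (Or.inl (by simp))
      refine eq_top_iff.2 fun x _ => ?_
      obtain ⟨y, hy, hyx⟩ : σ x ∈ (commutator Γ).map σ := by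
        rw [map_commutator_eq, MonoidHom.range_eq_top.2 hσ.1, ← _root_.commutator_def, hG]
        exact mem_top _
      have hk : y⁻¹ * x ∈ σ.ker := by rw [MonoidHom.mem_ker, map_mul, map_inv, hyx, inv_mul_cancel]
      have := mul_mem hy (hσ.2.2 hk)
      rwa [mul_inv_cancel_left] at this
    have hcard : Nat.card ρ.ker ≤ 4 := by
      refine H92.L34.kernel_bound hF ρ (fun y => ?_) (fun x hx => ?_) ?_ fun x hx => ?_
      · obtain ⟨x, rfl⟩ := hσ.1 y; exact ⟨QuotientGroup.mk x, rfl⟩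
      · obtain ⟨z, rfl⟩ := hρk x hx
        rw [mem_center_iff]
        intro g
        obtain ⟨g, rfl⟩ := QuotientGroup.mk_surjective g
        rw [← QuotientGroup.mk_mul, ← QuotientGroup.mk_mul, mem_center_iff.1 (hσ.2.1 z.2) g]
      · refine eq_top_iff.2 ?_
        rw [← map_top_of_surjective (QuotientGroup.mk' sq) (QuotientGroup.mk'_surjective sq), ← hperf,
          map_commutator_eq]
        exact commutator_mono le_top le_top
      · obtain ⟨z, rfl⟩ := hρk x hx
        rw [← QuotientGroup.mk_mul, QuotientGroup.eq_one_iff]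
        exact ⟨z * z, ⟨z, pow_two z⟩, rfl⟩
    let q : σ.ker →* ρ.ker :=
      ((QuotientGroup.mk' sq).comp σ.ker.subtype).codRestrict ρ.ker fun z => z.2
    have hq : Function.Surjective q := fun x => by
      obtain ⟨z, hz⟩ := hρk x.1 x.2
      exact ⟨z, Subtype.ext hz.symm⟩
    -- at most two generators
    obtain ⟨s1, s2, hs⟩ : ∃ s1 s2 : ρ.ker, ∀ x : ρ.ker, ∃ i j : ℕ, x = s1 ^ i * s2 ^ j := by
      have hex : ∀ x : ρ.ker, x * x = 1 := fun x => by
        obtain ⟨z, rfl⟩ := hq x
        rw [← map_mul]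
        refine Subtype.ext ?_
        show (QuotientGroup.mk ((z * z : σ.ker) : Γ) : Γ ⧸ sq) = 1
        rw [QuotientGroup.eq_one_iff]
        exact ⟨z * z, ⟨z, pow_two z⟩, rfl⟩
      by_cases h1 : ∀ x : ρ.ker, x = 1
      · exact ⟨1, 1, fun x => ⟨0, 0, by simp [h1 x]⟩⟩
      push Not at h1
      obtain ⟨s1, hs1⟩ := h1
      by_cases h2 : ∀ x : ρ.ker, x = 1 ∨ x = s1
      · exact ⟨s1, 1, fun x => (h2 x).elim (fun h => ⟨0, 0, by simp [h]⟩) (fun h => ⟨1, 0, by simp [h]⟩)⟩
      push Not at h2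
      obtain ⟨s2, hs2, hs21⟩ := h2
      have h12' : s1 * s2 ≠ 1 := fun h => hs21 (by
        rw [← mul_left_cancel_iff (a := s1), h, hex])
      have hs4 : ({1, s1, s2, s1 * s2} : Finset ρ.ker).card = 4 := by
        rw [Finset.card_insert_of_notMem, Finset.card_insert_of_notMem, Finset.card_insert_of_notMem,
          Finset.card_singleton] <;> simp [hs1, Ne.symm hs1, hs2, Ne.symm hs2, Ne.symm hs21, Ne.symm h12']
      have : Fintype ρ.ker := Fintype.ofFinite _
      have huniv : ({1, s1, s2, s1 * s2} : Finset ρ.ker) = Finset.univ :=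
        Finset.eq_univ_of_card _ (le_antisymm (Finset.card_le_univ _) (by
          rw [hs4, ← Nat.card_eq_fintype_card]; exact hcard))
      refine ⟨s1, s2, fun x => ?_⟩
      have hx : x ∈ ({1, s1, s2, s1 * s2} : Finset ρ.ker) := huniv ▸ Finset.mem_univ x
      simp only [Finset.mem_insert, Finset.mem_singleton] at hx
      rcases hx with rfl | rfl | rfl | rfl
      · exact ⟨0, 0, by simp⟩
      · exact ⟨1, 0, by simp⟩
      · exact ⟨0, 1, by simp⟩
      · exact ⟨1, 1, by simp⟩
    obtain ⟨g1, rfl⟩ := hq s1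
    obtain ⟨g2, rfl⟩ := hq s2
    refine ⟨g1, g2, fun z => ?_⟩
    obtain ⟨i, j, hij⟩ := hs (q z)
    rw [← map_pow, ← map_pow, ← map_mul] at hij
    have hmem : ((g1 ^ i * g2 ^ j)⁻¹ * z : σ.ker).1 ∈ sq := by
      rw [← QuotientGroup.eq_one_iff]
      have := congrArg Subtype.val (show q ((g1 ^ i * g2 ^ j)⁻¹ * z) = 1 by
        rw [map_mul, map_inv, ← hij, inv_mul_cancel])
      exact this
    obtain ⟨_, ⟨w, rfl⟩, hw⟩ := hmem
    refine ⟨i, j, w, ?_⟩
    have hw' : w ^ 2 = (g1 ^ i * g2 ^ j)⁻¹ * z := Subtype.ext hw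
    rw [mul_assoc _ w w, ← pow_two w, hw', mul_inv_cancel_left]
  -- assemble
  set E3 : σ.ker := ⟨e3, he3⟩
  have hE : E3 ^ 3 = 1 := Subtype.ext he3'
  have hg4 : ∀ g : σ.ker, (g ^ 3) ^ 4 = 1 := fun g => by rw [← pow_mul]; exact h12 g
  obtain ⟨k1, hk1⟩ := Cfsg.Agent.H50.LinFour.exists_zmod_hom E3 hE
  obtain ⟨k2, hk2⟩ := Cfsg.Agent.H50.LinFour.exists_zmod_hom _ (hg4 g1)
  obtain ⟨k3, hk3⟩ := Cfsg.Agent.H50.LinFour.exists_zmod_hom _ (hg4 g2)
  let f0 : Multiplicative (ZMod 3) × (Multiplicative (ZMod 4) × Multiplicative (ZMod 4)) →* σ.ker :=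
    k1.coprod (k2.coprod k3)
  have hin : ∀ z : σ.ker, z ∈ f0.range := by
    have hE3 : E3 ∈ f0.range := ⟨(Multiplicative.ofAdd 1, (1, 1)), by simp [f0, hk1]⟩
    have hG1 : g1 ^ 3 ∈ f0.range := ⟨(1, (Multiplicative.ofAdd 1, 1)), by simp [f0, hk2]⟩
    have hG2 : g2 ^ 3 ∈ f0.range := ⟨(1, (1, Multiplicative.ofAdd 1)), by simp [f0, hk3]⟩
    have h4th : ∀ z : σ.ker, z ^ 4 ∈ f0.range := fun z => by
      have hz : ((z : Γ) ^ 4) ^ 3 ^ 1 = 1 := by
        rw [← pow_mul, ← SubgroupClass.coe_pow, show 4 * 3 ^ 1 = 12 from rfl, h12 z]; rfl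
      obtain ⟨i, hi⟩ := mem_zpowers_iff.1 (h3 _ (pow_mem z.2 4) 1 hz)
      exact (show z ^ 4 = E3 ^ i from Subtype.ext (by simpa [E3] using hi.symm)) ▸ zpow_mem hE3 i
    intro z
    have hcube : ∀ g ∈ ({g1, g2} : Set σ.ker), g ∈ f0.range := by
      intro g hg'
      have h : g = g ^ 4 * ((g ^ 3)⁻¹) := by rw [pow_succ' g 3, mul_inv_cancel_right]
      rw [h]
      refine mul_mem (h4th g) (inv_mem ?_)
      rcases hg' with rfl | rfl
      · exact hG1
      · exact hG2
    have half : ∀ x : σ.ker, ∃ y ∈ f0.range, ∃ w, x = y * (w * w) := fun x => by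
      obtain ⟨i, j, w, hw⟩ := hg x
      exact ⟨_, mul_mem (pow_mem (hcube g1 (by simp)) i) (pow_mem (hcube g2 (by simp)) j), w,
        hw.trans (mul_assoc _ w w)⟩
    obtain ⟨y, hy, w, rfl⟩ := half z
    obtain ⟨y', hy', w', rfl⟩ := half w
    refine mul_mem hy ?_
    have e : y' * (w' * w') * (y' * (w' * w')) = y' * y' * w' ^ 4 := by
      rw [show w' ^ 4 = w' * w' * (w' * w') by simp only [pow_succ, pow_zero, one_mul, mul_assoc]]
      exact mul_mul_mul_comm _ _ _ _
    rw [e]
    exact mul_mem (mul_mem hy' hy') (h4th w')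
  let e : Multiplicative (ZMod 3 × ZMod 4 × ZMod 4) ≃*
      Multiplicative (ZMod 3) × (Multiplicative (ZMod 4) × Multiplicative (ZMod 4)) :=
    (MulEquiv.prodMultiplicative (ZMod 3) (ZMod 4 × ZMod 4)).trans
      ((MulEquiv.refl _).prodCongr (MulEquiv.prodMultiplicative (ZMod 4) (ZMod 4)))
  exact ⟨f0.comp e.toMonoidHom, fun z => by
    obtain ⟨x, hx⟩ := hin z
    exact ⟨e.symm x, by simp [hx]⟩⟩

end Cfsg.Agent.H50.LinFour
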