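/-
A cocycle with values in `ℤ/4 × ℤ/4` on the Borel subgroup of the 3-dimensional special linear group
over the field with four elements.
-/
import Cfsg.Agent.H50.LinFour.Field

set_option autoImplicit false

namespace Cfsg.Agent.H50.LinFour

open Matrix

/-- the coefficient group -/
abbrev C44 : Type := ZMod 4 × ZMod 4

/-- the pairing of the two root groups with the centre -/
def phi : K4 → C44
  | .o => (0, 0)
  | .e => (2, 0)
  | .w => (0, 2)
  | .v => (2, 2)

/-- its transform -/
def psi (x : K4) : C44 := phi (x * x)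

/-- the commutator of the two root groups, at `1` -/
def kone : K4 → C44
  | .o => (0, 0)
  | .e => (1, 0)
  | .w => (0, 1)
  | .v => (3, 3)

/-- the commutator of the two root groups -/
def kap (a b : K4) : C44 := if a = 0 then 0 else kone (a * a * b)

theorem phi_add : ∀ x y : K4, phi (x + y) = phi x + phi y := by decide +kernel
theorem psi_add : ∀ x y : K4, psi (x + y) = psi x + psi y := by decide +kernel
theorem phi_neg : ∀ x : K4, -phi x = phi x := by decide +kernel
theorem psi_neg : ∀ x : K4, -psi x = psi x := by decide +kernel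
theorem kap_left : ∀ a a' b : K4, kap (a + a') b = kap a b + kap a' b + phi (a * a' * b) := by
  decide +kernel
theorem kap_right : ∀ a b b' : K4, kap a (b + b') = kap a b + kap a b' + psi (a * b * b') := by
  decide +kernel
theorem kap_scale : ∀ l a b : K4, l ≠ 0 → kap (l * a) (l * b) = kap a b := by decide +kernel

/-- coordinates in the unipotent radical -/
abbrev Tri : Type := K4 × K4 × K4

/-- product in coordinates -/
def umul (u v : Tri) : Tri := (u.1 + v.1, u.2.1 + v.2.1, u.2.2 + v.2.2 + v.1 * u.2.1)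

/-- action of the torus -/
def act (l : K4) (u : Tri) : Tri := (l * u.1, l * u.2.1, l * l * u.2.2)

/-- the cocycle on the unipotent radical -/
def coc (u v : Tri) : C44 :=
  phi (v.1 * u.2.2) + psi (v.2.1 * u.2.2) + psi (v.1 * u.2.1 * v.2.1) - kap v.1 u.2.1

theorem coc_assoc (u v w : Tri) : coc u v + coc (umul u v) w = coc v w + coc u (umul v w) := by
  obtain ⟨a, b, c⟩ := u
  obtain ⟨a', b', c'⟩ := v
  obtain ⟨a'', b'', c''⟩ := w
  simp only [coc, umul, kap_left, kap_right, mul_add, add_mul, phi_add, psi_add, sub_eq_add_neg,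
    neg_add_rev, phi_neg, psi_neg]
  rw [show a'' * (a' * b) = a' * a'' * b by ring, show b'' * (a' * b) = a' * b * b'' by ring]
  abel

theorem coc_scale (l : K4) (hl : l ≠ 0) (u v : Tri) : coc (act l u) (act l v) = coc u v := by
  obtain ⟨a, b, c⟩ := u
  obtain ⟨a', b', c'⟩ := v
  have h3 := K4.cube hl
  simp only [coc, act, kap_scale _ _ _ hl]
  rw [show l * a' * (l * l * c) = a' * c by linear_combination (a' * c) * h3,
    show l * b' * (l * l * c) = b' * c by linear_combination (b' * c) * h3,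
    show l * a' * (l * b) * (l * b') = a' * b * b' by linear_combination (a' * b * b') * h3]

theorem coc_zero (u : Tri) : coc (0, 0, 0) u = 0 ∧ coc u (0, 0, 0) = 0 := by
  revert u; decide +kernel

theorem act_umul (l : K4) (u v : Tri) : act l (umul u v) = umul (act l u) (act l v) := by
  simp only [act, umul, Prod.mk.injEq]
  exact ⟨by ring, by ring, by ring⟩

theorem act_act (l l' : K4) (u : Tri) : act l (act l' u) = act (l * l') u := by
  simp only [act, Prod.mk.injEq]
  exact ⟨by ring, by ring, by ring⟩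

local notation "S" => SpecialLinearGroup (Fin 3) K4

/-- an element of the Borel subgroup: unipotent coordinates and two diagonal entries -/
def borelMat (u : Tri) (r s : K4) : Matrix (Fin 3) (Fin 3) K4 :=
  !![r, u.1 * s, (u.2.2 + u.1 * u.2.1) * (r * r * (s * s)); 0, s, u.2.1 * (r * r * (s * s));
    0, 0, r * r * (s * s)]

/-- coordinates of an upper triangular element -/
def co (g : Matrix (Fin 3) (Fin 3) K4) : Tri :=
  (g 0 1 * (g 1 1 * g 1 1), g 1 2 * (g 2 2 * g 2 2),
    g 0 2 * (g 2 2 * g 2 2) + g 0 1 * (g 1 1 * g 1 1) * (g 1 2 * (g 2 2 * g 2 2)))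

/-- the character through which the torus acts -/
def lam (g : Matrix (Fin 3) (Fin 3) K4) : K4 := g 0 0 * (g 1 1 * g 1 1)

theorem co_borelMat (u : Tri) {r s : K4} (hr : r ≠ 0) (hs : s ≠ 0) : co (borelMat u r s) = u := by
  obtain ⟨a, b, c⟩ := u
  have h1 := K4.cube hr
  have h2 := K4.cube hs
  have ht : r * r * (s * s) * (r * r * (s * s) * (r * r * (s * s))) = 1 := by
    linear_combination (r * r * r * (s * s * s) * (s * s * s) + (s * s * s) * (s * s * s)) * h1 +
      ((s * s * s) + 1) * h2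
  have hs3 : s * (s * s) = 1 := by linear_combination h2
  simp only [co, borelMat, Matrix.of_apply, Matrix.cons_val', Matrix.cons_val_zero, Matrix.cons_val_one,
    Matrix.cons_val_two, Matrix.cons_val_fin_one, Matrix.head_cons, Matrix.tail_cons, Matrix.head_fin_const,
    Matrix.cons_val, mul_assoc _ s, hs3, mul_one]
  simp only [mul_assoc _ (r * r * (s * s)), ht, mul_one, Prod.mk.injEq, true_and]
  linear_combination (CharTwo.add_self_eq_zero (a * b))

theorem borelMat_mul (u u' : Tri) {r s r' s' : K4} (hr : r ≠ 0) (hs : s ≠ 0) :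
    borelMat u r s * borelMat u' r' s' = borelMat (umul u (act (r * (s * s)) u')) (r * r') (s * s') := by
  obtain ⟨a, b, c⟩ := u
  obtain ⟨a', b', c'⟩ := u'
  have h1 := K4.cube hr
  have h2 := K4.cube hs
  ext i j
  fin_cases i <;> fin_cases j <;>
    simp [borelMat, umul, act, Matrix.mul_apply, Fin.sum_univ_three]
  · linear_combination (-(r * a' * s')) * h2
  · have h22 : (2 : K4) = 0 := CharTwo.two_eq_zero
    linear_combination (-((c' + a' * b') * (r' * r' * (s' * s')) * r)) *
        ((s * s * s) * (s * s * s) * h1 + (s * s * s + 1) * h2) +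
      (-(a * b' * (r' * r' * (s' * s')) * s)) * ((s * s * s) * h1 + h2) +
      (-(r * (s * s) * a' * b * (r * r * (s * s)) * (r' * r' * (s' * s')))) * h22
  · linear_combination (-(b' * (r' * r' * (s' * s')) * s)) * ((s * s * s) * h1 + h2)
  · ring

theorem det_borelMat (u : Tri) {r s : K4} (hr : r ≠ 0) (hs : s ≠ 0) : (borelMat u r s).det = 1 := by
  have h1 := K4.cube hr
  have h2 := K4.cube hs
  simp [borelMat, Matrix.det_fin_three]
  linear_combination (s * s * s) * h1 + h2

/-- the element of the group -/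
def borelEl (u : Tri) (r s : K4ˣ) : S := ⟨borelMat u r s, det_borelMat u r.ne_zero s.ne_zero⟩

/-- the Borel subgroup -/
def borel : Subgroup S where
  carrier := {g | g.1 1 0 = 0 ∧ g.1 2 0 = 0 ∧ g.1 2 1 = 0}
  one_mem' := by simp
  mul_mem' := by
    rintro g h ⟨g1, g2, g3⟩ ⟨h1, h2, h3⟩
    refine ⟨?_, ?_, ?_⟩ <;>
      simp [Matrix.SpecialLinearGroup.coe_mul, Matrix.mul_apply, Fin.sum_univ_three, g1, g2, g3, h1, h2, h3]
  inv_mem' := by
    rintro g ⟨g1, g2, g3⟩
    refine ⟨?_, ?_, ?_⟩ <;>
      simp [Matrix.SpecialLinearGroup.coe_inv, Matrix.adjugate_fin_three, g1, g2, g3]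

theorem exists_borelEl {g : S} (hg : g ∈ borel) : ∃ u r s, g = borelEl u r s := by
  obtain ⟨g1, g2, g3⟩ := hg
  have hd : g.1 0 0 * g.1 1 1 * g.1 2 2 = 1 := by
    have := g.2
    rw [Matrix.det_fin_three] at this
    simpa [g1, g2, g3] using this
  have hr : g.1 0 0 ≠ 0 := fun h => by simp [h] at hd
  have hs : g.1 1 1 ≠ 0 := fun h => by simp [h] at hd
  have ht : g.1 2 2 ≠ 0 := fun h => by simp [h] at hd
  have h1 := K4.cube hr
  have h2 := K4.cube hs
  have h3 := K4.cube ht
  have h22 : (2 : K4) = 0 := CharTwo.two_eq_zero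
  have et : g.1 2 2 = g.1 0 0 * g.1 0 0 * (g.1 1 1 * g.1 1 1) := by
    linear_combination (g.1 0 0 * g.1 0 0 * (g.1 1 1 * g.1 1 1)) * hd -
      (g.1 1 1 * g.1 1 1 * g.1 1 1 * g.1 2 2) * h1 - g.1 2 2 * h2
  refine ⟨co g.1, Units.mk0 _ hr, Units.mk0 _ hs, Subtype.ext ?_⟩
  show g.1 = borelMat (co g.1) (g.1 0 0) (g.1 1 1)
  ext i j
  fin_cases i <;> fin_cases j <;>
    simp [borelMat, co, g1, g2, g3, ← et]
  · linear_combination (-(g.1 0 1)) * h2
  · linear_combination (-(g.1 0 2)) * h3 +
      (-(g.1 0 1 * (g.1 1 1 * g.1 1 1) * (g.1 1 2 * (g.1 2 2 * g.1 2 2)) * g.1 2 2)) * h22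
  · linear_combination (-(g.1 1 2)) * h3

/-- the cocycle on the Borel subgroup -/
def bcoc (g h : S) : C44 := coc (co g.1) (act (lam g.1) (co h.1))

theorem borel_coords {g h : S} (hg : g ∈ borel) (hh : h ∈ borel) :
    co (g * h).1 = umul (co g.1) (act (lam g.1) (co h.1)) ∧ lam (g * h).1 = lam g.1 * lam h.1 ∧
      lam g.1 ≠ 0 := by
  obtain ⟨u, r, s, rfl⟩ := exists_borelEl hg
  obtain ⟨u', r', s', rfl⟩ := exists_borelEl hh
  have hl : ∀ (w : Tri) (x y : K4), lam (borelMat w x y) = x * (y * y) := fun w x y => by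
    simp [lam, borelMat]
  have em : (borelEl u r s * borelEl u' r' s').1 = borelMat (umul u (act ((r : K4) * (s * s)) u'))
      ((r : K4) * r') ((s : K4) * s') := borelMat_mul u u' r.ne_zero s.ne_zero
  rw [em]
  simp only [borelEl, hl]
  rw [co_borelMat u r.ne_zero s.ne_zero, co_borelMat u' r'.ne_zero s'.ne_zero,
    co_borelMat _ (mul_ne_zero r.ne_zero r'.ne_zero) (mul_ne_zero s.ne_zero s'.ne_zero)]
  exact ⟨rfl, by ring, mul_ne_zero r.ne_zero (mul_ne_zero s.ne_zero s.ne_zero)⟩

theorem bcoc_assoc {x y z : S} (hx : x ∈ borel) (hy : y ∈ borel) (hz : z ∈ borel) :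
    bcoc x y + bcoc (x * y) z = bcoc y z + bcoc x (y * z) := by
  obtain ⟨e1, e2, hl⟩ := borel_coords hx hy
  obtain ⟨e3, -, -⟩ := borel_coords hy hz
  rw [bcoc, bcoc, bcoc, bcoc, e1, e2, e3, ← coc_scale (lam x.1) hl (co y.1), act_act, act_umul,
    act_act]
  exact coc_assoc _ _ _

theorem bcoc_one (x : S) : bcoc 1 x = 0 ∧ bcoc x 1 = 0 := by
  have e : co (1 : S).1 = (0, 0, 0) := by simp [co]
  constructor
  · rw [bcoc, e]; exact (coc_zero _).1
  · rw [bcoc, e]; simpa [act] using (coc_zero (co x.1)).2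

end Cfsg.Agent.H50.LinFour
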