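/- Coset representatives of the Borel subgroup and their Schreier data; generated. -/
import Cfsg.Agent.H50.LinFour.Cocycle

set_option autoImplicit false
set_option maxRecDepth 100000

namespace Cfsg.Agent.H50.LinFour

/-- a matrix by its nine entries -/
structure M3 where
  (a00 a01 a02 a10 a11 a12 a20 a21 a22 : K4)
  deriving DecidableEq

/-- representatives and their inverses -/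
def repList : List (M3 × M3) :=
  [(⟨.e,.o,.o,.o,.e,.o,.o,.o,.e⟩, ⟨.e,.o,.o,.o,.e,.o,.o,.o,.e⟩),
   (⟨.e,.o,.o,.e,.e,.o,.o,.o,.e⟩, ⟨.e,.o,.o,.e,.e,.o,.o,.o,.e⟩),
   (⟨.e,.o,.o,.o,.e,.o,.o,.e,.e⟩, ⟨.e,.o,.o,.o,.e,.o,.o,.e,.e⟩),
   (⟨.o,.o,.e,.e,.o,.o,.o,.e,.o⟩, ⟨.o,.e,.o,.o,.o,.e,.e,.o,.o⟩),
   (⟨.o,.e,.o,.e,.e,.o,.o,.o,.e⟩, ⟨.e,.e,.o,.e,.o,.o,.o,.o,.e⟩),
   (⟨.v,.w,.o,.e,.e,.o,.o,.o,.e⟩, ⟨.e,.w,.o,.e,.v,.o,.o,.o,.e⟩),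
   (⟨.e,.o,.o,.e,.e,.o,.e,.e,.e⟩, ⟨.e,.o,.o,.e,.e,.o,.o,.e,.e⟩),
   (⟨.o,.o,.e,.e,.o,.o,.e,.e,.o⟩, ⟨.o,.e,.o,.o,.e,.e,.e,.o,.o⟩),
   (⟨.e,.o,.o,.o,.o,.e,.o,.e,.e⟩, ⟨.e,.o,.o,.o,.e,.e,.o,.e,.o⟩),
   (⟨.e,.o,.o,.o,.v,.w,.o,.e,.e⟩, ⟨.e,.o,.o,.o,.e,.w,.o,.e,.v⟩),
   (⟨.e,.o,.o,.e,.e,.o,.o,.e,.e⟩, ⟨.e,.o,.o,.e,.e,.o,.e,.e,.e⟩),
   (⟨.o,.e,.e,.e,.o,.o,.o,.e,.o⟩, ⟨.o,.e,.o,.o,.o,.e,.e,.o,.e⟩),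
   (⟨.e,.o,.e,.e,.o,.o,.o,.e,.o⟩, ⟨.o,.e,.o,.o,.o,.e,.e,.e,.o⟩),
   (⟨.w,.o,.e,.e,.o,.o,.o,.e,.o⟩, ⟨.o,.e,.o,.o,.o,.e,.e,.w,.o⟩),
   (⟨.o,.e,.o,.o,.o,.e,.e,.o,.o⟩, ⟨.o,.o,.e,.e,.o,.o,.o,.e,.o⟩),
   (⟨.w,.v,.o,.e,.e,.o,.o,.o,.e⟩, ⟨.e,.v,.o,.e,.w,.o,.o,.o,.e⟩),
   (⟨.o,.e,.o,.e,.e,.o,.e,.e,.e⟩, ⟨.e,.e,.o,.e,.o,.o,.o,.e,.e⟩),
   (⟨.o,.o,.e,.o,.e,.o,.e,.e,.o⟩, ⟨.o,.e,.e,.o,.e,.o,.e,.o,.o⟩),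
   (⟨.v,.w,.o,.e,.e,.o,.e,.e,.e⟩, ⟨.e,.w,.o,.e,.v,.o,.o,.e,.e⟩),
   (⟨.o,.o,.e,.v,.w,.o,.e,.e,.o⟩, ⟨.o,.e,.w,.o,.e,.v,.e,.o,.o⟩),
   (⟨.e,.o,.o,.o,.o,.e,.e,.e,.e⟩, ⟨.e,.o,.o,.e,.e,.e,.o,.e,.o⟩),
   (⟨.e,.o,.o,.v,.v,.w,.e,.e,.e⟩, ⟨.e,.o,.o,.e,.e,.w,.o,.e,.v⟩),
   (⟨.e,.o,.o,.o,.e,.o,.e,.e,.e⟩, ⟨.e,.o,.o,.o,.e,.o,.e,.e,.e⟩),
   (⟨.e,.e,.e,.e,.o,.o,.e,.e,.o⟩, ⟨.o,.e,.o,.o,.e,.e,.e,.o,.e⟩),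
   (⟨.e,.o,.e,.e,.o,.o,.e,.e,.o⟩, ⟨.o,.e,.o,.o,.e,.e,.e,.e,.o⟩),
   (⟨.w,.o,.e,.e,.o,.o,.e,.e,.o⟩, ⟨.o,.e,.o,.o,.e,.e,.e,.w,.o⟩),
   (⟨.e,.o,.o,.o,.w,.v,.o,.e,.e⟩, ⟨.e,.o,.o,.o,.e,.v,.o,.e,.w⟩),
   (⟨.e,.o,.o,.e,.v,.w,.o,.e,.e⟩, ⟨.e,.o,.o,.e,.e,.w,.e,.e,.v⟩),
   (⟨.o,.e,.e,.e,.o,.o,.o,.v,.w⟩, ⟨.o,.e,.o,.w,.o,.e,.v,.o,.e⟩),
   (⟨.v,.w,.o,.e,.e,.o,.o,.e,.e⟩, ⟨.e,.w,.o,.e,.v,.o,.e,.v,.e⟩),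
   (⟨.o,.e,.e,.e,.o,.o,.e,.e,.o⟩, ⟨.o,.e,.o,.o,.e,.e,.e,.e,.e⟩),
   (⟨.w,.e,.e,.e,.o,.o,.o,.e,.o⟩, ⟨.o,.e,.o,.o,.o,.e,.e,.w,.e⟩),
   (⟨.o,.e,.o,.o,.e,.e,.e,.o,.o⟩, ⟨.o,.o,.e,.e,.o,.o,.e,.e,.o⟩),
   (⟨.v,.o,.e,.e,.o,.o,.o,.e,.o⟩, ⟨.o,.e,.o,.o,.o,.e,.e,.v,.o⟩),
   (⟨.e,.o,.e,.e,.w,.o,.o,.e,.o⟩, ⟨.o,.e,.w,.o,.o,.e,.e,.e,.w⟩),
   (⟨.w,.o,.e,.e,.e,.o,.o,.e,.o⟩, ⟨.o,.e,.e,.o,.o,.e,.e,.w,.w⟩),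
   (⟨.w,.o,.e,.e,.w,.o,.o,.e,.o⟩, ⟨.o,.e,.w,.o,.o,.e,.e,.w,.v⟩),
   (⟨.o,.e,.o,.w,.o,.e,.e,.o,.o⟩, ⟨.o,.o,.e,.e,.o,.o,.o,.e,.w⟩),
   (⟨.w,.v,.o,.e,.e,.o,.e,.e,.e⟩, ⟨.e,.v,.o,.e,.w,.o,.o,.e,.e⟩),
   (⟨.o,.o,.e,.w,.v,.o,.e,.e,.o⟩, ⟨.o,.e,.v,.o,.e,.w,.e,.o,.o⟩),
   (⟨.o,.e,.o,.v,.v,.w,.e,.e,.e⟩, ⟨.e,.e,.w,.e,.o,.o,.o,.e,.v⟩),
   (⟨.e,.e,.e,.o,.e,.o,.e,.e,.o⟩, ⟨.o,.e,.e,.o,.e,.o,.e,.o,.e⟩),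
   (⟨.o,.w,.e,.o,.e,.o,.e,.e,.o⟩, ⟨.o,.e,.e,.o,.e,.o,.e,.w,.o⟩),
   (⟨.v,.w,.o,.o,.o,.e,.e,.e,.e⟩, ⟨.e,.w,.w,.e,.v,.v,.o,.e,.o⟩),
   (⟨.v,.w,.o,.v,.v,.w,.e,.e,.e⟩, ⟨.e,.w,.v,.e,.v,.e,.o,.e,.v⟩),
   (⟨.v,.w,.o,.w,.v,.o,.e,.e,.e⟩, ⟨.v,.w,.o,.w,.v,.o,.e,.e,.e⟩),
   (⟨.e,.e,.e,.v,.w,.o,.e,.e,.o⟩, ⟨.o,.e,.w,.o,.e,.v,.e,.o,.e⟩),
   (⟨.v,.w,.e,.v,.w,.o,.e,.e,.o⟩, ⟨.o,.e,.w,.o,.e,.v,.e,.e,.o⟩),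
   (⟨.e,.v,.e,.v,.w,.o,.e,.e,.o⟩, ⟨.o,.e,.w,.o,.e,.v,.e,.w,.o⟩),
   (⟨.e,.e,.o,.o,.o,.e,.v,.w,.o⟩, ⟨.w,.o,.e,.v,.o,.e,.o,.e,.o⟩),
   (⟨.e,.o,.o,.w,.w,.v,.e,.e,.e⟩, ⟨.e,.o,.o,.e,.e,.v,.o,.e,.w⟩),
   (⟨.w,.v,.w,.v,.v,.w,.e,.e,.e⟩, ⟨.e,.e,.o,.e,.o,.w,.o,.e,.v⟩),
   (⟨.e,.o,.o,.w,.v,.w,.e,.e,.e⟩, ⟨.e,.o,.o,.o,.e,.w,.e,.e,.v⟩),
   (⟨.e,.o,.o,.v,.v,.w,.w,.w,.v⟩, ⟨.e,.o,.o,.e,.v,.w,.o,.w,.v⟩),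
   (⟨.e,.e,.e,.e,.o,.o,.v,.v,.w⟩, ⟨.o,.e,.o,.w,.e,.e,.v,.o,.e⟩),
   (⟨.e,.w,.o,.o,.e,.o,.e,.e,.e⟩, ⟨.e,.w,.o,.o,.e,.o,.e,.v,.e⟩),
   (⟨.v,.e,.e,.e,.o,.o,.e,.e,.o⟩, ⟨.o,.e,.o,.o,.e,.e,.e,.w,.e⟩),
   (⟨.v,.o,.e,.e,.o,.o,.e,.e,.o⟩, ⟨.o,.e,.o,.o,.e,.e,.e,.v,.o⟩),
   (⟨.e,.o,.e,.v,.w,.o,.e,.e,.o⟩, ⟨.o,.e,.w,.o,.e,.v,.e,.e,.w⟩),
   (⟨.w,.o,.e,.o,.e,.o,.e,.e,.o⟩, ⟨.o,.e,.e,.o,.e,.o,.e,.w,.w⟩),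
   (⟨.w,.o,.e,.v,.w,.o,.e,.e,.o⟩, ⟨.o,.e,.w,.o,.e,.v,.e,.w,.v⟩),
   (⟨.w,.o,.e,.v,.o,.e,.e,.e,.o⟩, ⟨.e,.e,.o,.e,.e,.e,.v,.w,.o⟩),
   (⟨.o,.e,.e,.e,.o,.o,.o,.w,.v⟩, ⟨.o,.e,.o,.v,.o,.e,.w,.o,.e⟩),
   (⟨.v,.e,.v,.e,.v,.w,.o,.e,.e⟩, ⟨.e,.w,.o,.e,.v,.w,.e,.v,.v⟩),
   (⟨.e,.o,.o,.e,.v,.w,.e,.w,.v⟩, ⟨.e,.o,.o,.e,.v,.w,.e,.w,.v⟩),
   (⟨.o,.e,.e,.e,.o,.o,.e,.v,.w⟩, ⟨.o,.e,.o,.w,.e,.e,.v,.e,.e⟩),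
   (⟨.o,.v,.w,.o,.e,.e,.e,.o,.o⟩, ⟨.o,.o,.e,.e,.w,.o,.e,.v,.o⟩),
   (⟨.v,.w,.o,.e,.o,.e,.o,.e,.e⟩, ⟨.e,.w,.w,.e,.v,.v,.e,.v,.w⟩),
   (⟨.o,.e,.e,.v,.w,.o,.e,.e,.o⟩, ⟨.o,.e,.w,.o,.e,.v,.e,.e,.v⟩),
   (⟨.w,.e,.e,.e,.o,.o,.e,.e,.o⟩, ⟨.o,.e,.o,.o,.e,.e,.e,.v,.e⟩),
   (⟨.o,.e,.o,.w,.e,.e,.e,.o,.o⟩, ⟨.o,.o,.e,.e,.o,.o,.e,.e,.w⟩),
   (⟨.e,.o,.e,.e,.w,.o,.e,.v,.o⟩, ⟨.o,.v,.w,.o,.e,.e,.e,.v,.w⟩),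
   (⟨.o,.e,.o,.e,.o,.e,.e,.w,.o⟩, ⟨.w,.o,.e,.e,.o,.o,.w,.e,.e⟩),
   (⟨.w,.o,.e,.e,.e,.o,.e,.o,.o⟩, ⟨.o,.o,.e,.o,.e,.e,.e,.o,.w⟩),
   (⟨.o,.e,.o,.w,.o,.e,.e,.e,.o⟩, ⟨.e,.o,.e,.e,.o,.o,.w,.e,.w⟩),
   (⟨.w,.o,.e,.e,.w,.o,.e,.v,.o⟩, ⟨.o,.v,.w,.o,.e,.e,.e,.e,.v⟩),
   (⟨.o,.e,.o,.w,.o,.e,.e,.w,.o⟩, ⟨.w,.o,.e,.e,.o,.o,.v,.e,.w⟩),
   (⟨.w,.e,.e,.w,.o,.e,.e,.o,.o⟩, ⟨.o,.o,.e,.e,.e,.o,.o,.e,.w⟩),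
   (⟨.e,.o,.o,.o,.e,.o,.w,.o,.e⟩, ⟨.e,.o,.o,.o,.e,.o,.w,.o,.e⟩),
   (⟨.w,.v,.o,.v,.w,.o,.e,.e,.e⟩, ⟨.w,.v,.o,.v,.w,.o,.e,.e,.e⟩),
   (⟨.e,.e,.e,.w,.v,.o,.e,.e,.o⟩, ⟨.o,.e,.v,.o,.e,.w,.e,.o,.e⟩),
   (⟨.w,.v,.e,.w,.v,.o,.e,.e,.o⟩, ⟨.o,.e,.v,.o,.e,.w,.e,.e,.o⟩),
   (⟨.v,.e,.e,.w,.v,.o,.e,.e,.o⟩, ⟨.o,.e,.v,.o,.e,.w,.e,.w,.o⟩),
   (⟨.e,.e,.e,.o,.e,.o,.v,.v,.w⟩, ⟨.w,.e,.e,.o,.e,.o,.v,.o,.e⟩),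
   (⟨.e,.v,.e,.o,.e,.o,.e,.e,.o⟩, ⟨.o,.e,.e,.o,.e,.o,.e,.w,.e⟩),
   (⟨.v,.w,.o,.o,.e,.w,.e,.e,.e⟩, ⟨.v,.w,.v,.w,.v,.e,.e,.e,.v⟩),
   (⟨.o,.w,.e,.v,.w,.o,.e,.e,.o⟩, ⟨.o,.e,.w,.o,.e,.v,.e,.w,.e⟩),
   (⟨.v,.w,.e,.e,.o,.o,.e,.e,.o⟩, ⟨.o,.e,.o,.o,.e,.e,.e,.e,.w⟩),
   (⟨.e,.v,.e,.w,.v,.o,.e,.e,.o⟩, ⟨.o,.e,.v,.o,.e,.w,.e,.w,.w⟩),
   (⟨.e,.v,.e,.w,.e,.e,.e,.e,.o⟩, ⟨.e,.e,.w,.e,.e,.v,.v,.w,.o⟩),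
   (⟨.e,.e,.e,.e,.o,.o,.w,.w,.v⟩, ⟨.o,.e,.o,.v,.e,.e,.w,.o,.e⟩),
   (⟨.e,.e,.e,.w,.v,.w,.v,.v,.w⟩, ⟨.o,.e,.e,.w,.e,.o,.v,.o,.e⟩),
   (⟨.v,.v,.w,.w,.v,.w,.e,.e,.e⟩, ⟨.e,.e,.o,.o,.e,.w,.e,.o,.v⟩),
   (⟨.w,.e,.v,.w,.v,.w,.e,.e,.e⟩, ⟨.e,.w,.o,.o,.e,.w,.e,.v,.v⟩),
   (⟨.e,.e,.e,.e,.o,.o,.w,.v,.w⟩, ⟨.o,.e,.o,.w,.o,.e,.v,.e,.e⟩),
   (⟨.v,.e,.e,.o,.e,.o,.e,.e,.o⟩, ⟨.o,.e,.e,.o,.e,.o,.e,.w,.v⟩),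
   (⟨.v,.e,.e,.w,.e,.e,.e,.e,.o⟩, ⟨.e,.e,.o,.e,.e,.e,.v,.w,.e⟩),
   (⟨.v,.o,.e,.o,.e,.o,.e,.e,.o⟩, ⟨.o,.e,.e,.o,.e,.o,.e,.v,.v⟩),
   (⟨.v,.o,.e,.v,.w,.o,.e,.e,.o⟩, ⟨.o,.e,.w,.o,.e,.v,.e,.v,.e⟩),
   (⟨.o,.v,.e,.v,.w,.o,.e,.e,.o⟩, ⟨.o,.e,.w,.o,.e,.v,.e,.v,.w⟩),
   (⟨.w,.e,.e,.o,.e,.o,.e,.e,.o⟩, ⟨.o,.e,.e,.o,.e,.o,.e,.v,.w⟩),
   (⟨.w,.o,.e,.w,.v,.o,.e,.e,.o⟩, ⟨.o,.e,.v,.o,.e,.w,.e,.w,.e⟩),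
   (⟨.e,.w,.e,.v,.w,.o,.e,.e,.o⟩, ⟨.o,.e,.w,.o,.e,.v,.e,.v,.v⟩),
   (⟨.v,.e,.v,.e,.v,.w,.e,.w,.v⟩, ⟨.e,.w,.o,.e,.e,.w,.e,.o,.v⟩),
   (⟨.w,.o,.e,.o,.e,.o,.e,.v,.o⟩, ⟨.o,.v,.e,.o,.e,.o,.e,.e,.w⟩)]

/-- Schreier data -/
def sch0 : List (ℕ × Tri × K4 × K4) :=
  [(0, (.e, .e, .o), .e, .e),
   (4, (.o, .e, .o), .e, .e),
   (8, (.o, .o, .e), .e, .e),
   (12, (.e, .o, .o), .e, .e),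
   (1, (.o, .o, .e), .e, .e),
   (15, (.o, .v, .w), .e, .e),
   (20, (.o, .e, .e), .e, .e),
   (32, (.e, .e, .e), .e, .e),
   (2, (.e, .o, .o), .e, .e),
   (26, (.w, .o, .v), .e, .e),
   (3, (.o, .e, .e), .e, .e),
   (10, (.o, .e, .e), .e, .e),
   (11, (.e, .o, .o), .e, .e),
   (67, (.e, .e, .o), .e, .e),
   (6, (.e, .o, .e), .e, .e),
   (5, (.o, .w, .v), .e, .e),
   (14, (.e, .e, .o), .e, .e),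
   (24, (.o, .o, .o), .e, .e),
   (43, (.o, .e, .e), .e, .e),
   (81, (.o, .o, .o), .e, .e),
   (16, (.o, .o, .o), .e, .e),
   (53, (.w, .w, .e), .v, .e),
   (7, (.o, .o, .e), .e, .e),
   (22, (.o, .o, .e), .e, .e),
   (41, (.o, .o, .o), .e, .e),
   (100, (.o, .o, .o), .e, .e),
   (9, (.v, .o, .w), .e, .e),
   (28, (.e, .o, .e), .e, .w),
   (34, (.v, .e, .o), .e, .v),
   (35, (.e, .e, .e), .e, .e),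
   (17, (.o, .o, .o), .e, .e),
   (63, (.w, .e, .v), .e, .e),
   (23, (.e, .e, .o), .e, .e),
   (36, (.v, .o, .o), .e, .e),
   (62, (.e, .w, .w), .e, .v),
   (33, (.o, .o, .o), .e, .e),
   (29, (.w, .e, .v), .e, .e),
   (44, (.e, .w, .e), .e, .e),
   (49, (.o, .w, .v), .w, .v),
   (47, (.o, .o, .o), .e, .e),
   (77, (.e, .o, .e), .e, .e),
   (30, (.o, .o, .o), .e, .e),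
   (71, (.w, .o, .o), .e, .e),
   (38, (.o, .o, .o), .e, .e),
   (50, (.o, .v, .v), .e, .e),
   (19, (.o, .w, .v), .e, .e),
   (45, (.o, .w, .v), .e, .e),
   (80, (.o, .o, .o), .e, .e),
   (96, (.w, .w, .e), .e, .w),
   (18, (.o, .w, .v), .v, .w),
   (51, (.o, .o, .o), .e, .e),
   (37, (.e, .e, .o), .e, .e),
   (91, (.v, .v, .e), .w, .e),
   (40, (.v, .w, .v), .w, .e),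
   (58, (.w, .w, .o), .v, .e),
   (65, (.o, .v, .w), .e, .w),
   (97, (.o, .o, .o), .e, .e),
   (95, (.o, .o, .o), .e, .e),
   (92, (.o, .o, .e), .e, .e),
   (57, (.o, .o, .o), .e, .e),
   (74, (.v, .v, .e), .e, .v),
   (76, (.v, .o, .o), .e, .e),
   (27, (.w, .o, .v), .e, .w),
   (13, (.w, .e, .e), .e, .e),
   (55, (.v, .e, .o), .e, .e),
   (66, (.e, .o, .e), .e, .v),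
   (64, (.w, .o, .v), .e, .e),
   (31, (.e, .e, .e), .e, .e),
   (54, (.v, .v, .w), .w, .e),
   (59, (.o, .o, .o), .e, .e),
   (90, (.e, .e, .w), .v, .e),
   (84, (.w, .o, .o), .e, .e),
   (42, (.o, .w, .w), .e, .w),
   (104, (.v, .o, .o), .e, .e),
   (94, (.e, .e, .w), .v, .e),
   (83, (.o, .o, .v), .w, .e),
   (98, (.w, .v, .w), .e, .v),
   (21, (.e, .e, .e), .e, .e),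
   (75, (.v, .o, .w), .w, .e),
   (39, (.o, .v, .w), .e, .e),
   (79, (.o, .v, .w), .e, .e),
   (46, (.o, .o, .o), .e, .e),
   (99, (.o, .o, .o), .e, .e),
   (87, (.w, .o, .e), .v, .e),
   (72, (.o, .v, .e), .e, .v),
   (73, (.e, .w, .v), .e, .e),
   (93, (.o, .o, .e), .e, .e),
   (78, (.v, .o, .v), .v, .e),
   (61, (.w, .w, .e), .e, .w),
   (60, (.v, .v, .e), .e, .v),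
   (52, (.v, .v, .e), .w, .e),
   (70, (.v, .v, .v), .v, .e),
   (68, (.o, .o, .e), .e, .e),
   (48, (.o, .o, .e), .e, .e),
   (89, (.o, .o, .w), .w, .v),
   (69, (.o, .o, .o), .e, .e),
   (86, (.v, .v, .e), .e, .v),
   (25, (.o, .o, .o), .e, .e),
   (88, (.o, .o, .o), .e, .e),
   (101, (.o, .o, .o), .e, .e),
   (56, (.o, .o, .o), .e, .e),
   (102, (.o, .o, .o), .e, .e),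
   (82, (.o, .o, .o), .e, .e),
   (85, (.v, .v, .v), .e, .e),
   (103, (.e, .e, .o), .e, .e)]

/-- Schreier data -/
def sch1 : List (ℕ × Tri × K4 × K4) :=
  [(0, (.w, .w, .o), .e, .e),
   (5, (.o, .w, .o), .e, .e),
   (9, (.e, .o, .v), .e, .e),
   (13, (.w, .o, .o), .e, .e),
   (15, (.o, .o, .w), .e, .e),
   (1, (.o, .e, .v), .e, .e),
   (40, (.o, .v, .v), .e, .e),
   (48, (.o, .o, .o), .e, .e),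
   (26, (.v, .o, .e), .e, .e),
   (2, (.w, .o, .o), .e, .e),
   (63, (.o, .o, .o), .e, .e),
   (31, (.w, .o, .o), .e, .e),
   (67, (.w, .e, .v), .e, .e),
   (62, (.v, .w, .e), .e, .v),
   (53, (.e, .v, .w), .v, .e),
   (4, (.o, .v, .e), .e, .e),
   (21, (.o, .v, .v), .e, .e),
   (82, (.o, .o, .o), .e, .e),
   (51, (.o, .e, .e), .e, .e),
   (25, (.o, .o, .o), .e, .e),
   (77, (.e, .w, .v), .e, .e),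
   (18, (.o, .o, .o), .e, .e),
   (93, (.o, .o, .o), .e, .e),
   (86, (.o, .o, .o), .e, .e),
   (99, (.o, .o, .o), .e, .e),
   (90, (.w, .w, .v), .v, .e),
   (8, (.o, .o, .w), .e, .e),
   (29, (.o, .o, .o), .e, .e),
   (35, (.v, .e, .o), .e, .v),
   (12, (.v, .e, .e), .e, .e),
   (102, (.o, .o, .o), .e, .e),
   (28, (.e, .v, .v), .e, .w),
   (96, (.e, .e, .o), .e, .w),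
   (10, (.v, .e, .w), .e, .e),
   (33, (.o, .o, .o), .e, .e),
   (11, (.v, .o, .o), .e, .e),
   (3, (.o, .o, .o), .e, .e),
   (14, (.o, .w, .o), .e, .e),
   (44, (.o, .v, .v), .e, .e),
   (42, (.o, .o, .o), .e, .e),
   (38, (.o, .o, .o), .e, .e),
   (101, (.o, .o, .o), .e, .e),
   (92, (.o, .o, .e), .e, .e),
   (37, (.e, .e, .o), .e, .e),
   (6, (.o, .o, .o), .e, .e),
   (97, (.o, .w, .v), .e, .e),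
   (56, (.o, .o, .o), .e, .e),
   (71, (.w, .o, .o), .e, .e),
   (103, (.v, .e, .w), .e, .e),
   (50, (.o, .v, .w), .v, .w),
   (20, (.o, .w, .w), .e, .e),
   (16, (.o, .w, .w), .e, .e),
   (55, (.o, .o, .o), .e, .e),
   (43, (.v, .w, .v), .w, .e),
   (59, (.w, .w, .o), .v, .e),
   (81, (.o, .o, .e), .e, .e),
   (91, (.v, .v, .w), .w, .e),
   (79, (.o, .v, .w), .e, .e),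
   (57, (.o, .o, .o), .e, .e),
   (80, (.o, .o, .o), .e, .e),
   (7, (.o, .o, .o), .e, .e),
   (30, (.v, .v, .e), .e, .v),
   (36, (.o, .e, .o), .e, .w),
   (34, (.v, .e, .e), .e, .e),
   (19, (.v, .e, .e), .e, .e),
   (46, (.o, .e, .o), .e, .v),
   (45, (.e, .v, .e), .e, .e),
   (27, (.e, .o, .e), .e, .e),
   (69, (.o, .o, .o), .e, .e),
   (47, (.o, .o, .o), .e, .e),
   (66, (.o, .o, .o), .e, .e),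
   (68, (.w, .o, .o), .e, .e),
   (58, (.o, .w, .w), .e, .w),
   (94, (.w, .v, .e), .v, .v),
   (32, (.v, .v, .w), .e, .w),
   (98, (.w, .o, .o), .e, .e),
   (17, (.w, .v, .w), .e, .v),
   (49, (.v, .w, .o), .w, .v),
   (76, (.w, .w, .v), .w, .w),
   (72, (.o, .w, .o), .e, .v),
   (84, (.o, .o, .o), .e, .e),
   (100, (.o, .o, .o), .e, .e),
   (78, (.v, .o, .v), .v, .e),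
   (88, (.w, .o, .e), .v, .e),
   (54, (.v, .v, .w), .w, .e),
   (74, (.v, .o, .v), .e, .v),
   (73, (.e, .o, .o), .e, .e),
   (61, (.w, .w, .e), .e, .w),
   (41, (.o, .o, .o), .e, .e),
   (22, (.v, .v, .o), .e, .v),
   (64, (.o, .w, .e), .w, .e),
   (65, (.e, .w, .v), .v, .w),
   (95, (.o, .o, .e), .e, .e),
   (104, (.w, .o, .e), .e, .e),
   (23, (.v, .v, .o), .w, .w),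
   (39, (.o, .o, .o), .e, .e),
   (85, (.v, .e, .v), .e, .v),
   (70, (.e, .e, .e), .e, .e),
   (24, (.o, .o, .o), .e, .e),
   (75, (.w, .o, .o), .e, .e),
   (52, (.o, .o, .e), .e, .e),
   (83, (.v, .o, .v), .w, .e),
   (87, (.o, .o, .o), .e, .e),
   (60, (.v, .e, .e), .e, .e),
   (89, (.v, .w, .v), .e, .w)]

/-- Schreier data -/
def sch2 : List (ℕ × Tri × K4 × K4) :=
  [(0, (.e, .w, .o), .e, .e),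
   (4, (.o, .w, .o), .e, .e),
   (9, (.v, .o, .w), .e, .e),
   (12, (.w, .o, .o), .e, .e),
   (1, (.o, .o, .w), .e, .e),
   (15, (.o, .e, .v), .e, .e),
   (51, (.o, .o, .o), .e, .e),
   (47, (.o, .o, .o), .e, .e),
   (26, (.w, .o, .v), .e, .e),
   (2, (.e, .o, .o), .e, .e),
   (62, (.e, .o, .e), .e, .v),
   (10, (.v, .e, .w), .e, .e),
   (28, (.e, .v, .v), .e, .w),
   (63, (.e, .e, .o), .e, .e),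
   (77, (.o, .o, .o), .e, .e),
   (5, (.o, .v, .e), .e, .e),
   (44, (.o, .w, .w), .e, .e),
   (81, (.o, .o, .o), .e, .e),
   (40, (.o, .w, .w), .e, .e),
   (24, (.o, .o, .o), .e, .e),
   (53, (.w, .w, .e), .v, .e),
   (16, (.o, .o, .o), .e, .e),
   (92, (.o, .o, .o), .e, .e),
   (79, (.o, .v, .w), .e, .e),
   (91, (.v, .v, .w), .w, .e),
   (102, (.o, .o, .o), .e, .e),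
   (8, (.o, .o, .e), .e, .e),
   (11, (.e, .e, .e), .e, .e),
   (34, (.o, .e, .o), .e, .v),
   (13, (.v, .e, .e), .e, .e),
   (90, (.w, .w, .v), .v, .e),
   (67, (.w, .e, .v), .e, .e),
   (54, (.e, .e, .v), .w, .e),
   (31, (.w, .o, .o), .e, .e),
   (3, (.o, .o, .o), .e, .e),
   (29, (.w, .e, .v), .e, .e),
   (33, (.o, .o, .o), .e, .e),
   (14, (.o, .e, .o), .e, .e),
   (21, (.o, .w, .w), .e, .e),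
   (32, (.e, .e, .e), .e, .e),
   (6, (.o, .o, .o), .e, .e),
   (45, (.o, .w, .v), .e, .e),
   (93, (.o, .o, .e), .e, .e),
   (50, (.o, .v, .v), .e, .e),
   (38, (.o, .o, .o), .e, .e),
   (78, (.v, .e, .w), .v, .e),
   (30, (.o, .o, .o), .e, .e),
   (73, (.e, .o, .o), .e, .e),
   (72, (.o, .v, .e), .e, .v),
   (37, (.e, .e, .e), .v, .w),
   (20, (.o, .e, .e), .e, .e),
   (18, (.o, .w, .w), .e, .e),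
   (41, (.o, .o, .e), .e, .e),
   (43, (.v, .e, .w), .w, .e),
   (104, (.o, .w, .o), .v, .e),
   (82, (.o, .o, .e), .e, .e),
   (99, (.o, .o, .o), .e, .e),
   (86, (.o, .o, .o), .e, .e),
   (7, (.o, .o, .o), .e, .e),
   (74, (.v, .v, .e), .e, .v),
   (57, (.o, .o, .o), .e, .e),
   (56, (.v, .v, .e), .e, .v),
   (27, (.e, .o, .o), .e, .w),
   (35, (.o, .e, .e), .e, .e),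
   (61, (.o, .e, .o), .e, .w),
   (98, (.o, .e, .o), .e, .v),
   (101, (.e, .e, .o), .e, .e),
   (36, (.o, .e, .e), .e, .e),
   (23, (.o, .o, .o), .e, .e),
   (48, (.o, .o, .o), .e, .e),
   (17, (.e, .e, .o), .e, .e),
   (60, (.w, .o, .o), .e, .e),
   (94, (.v, .e, .o), .v, .e),
   (58, (.e, .o, .o), .e, .e),
   (42, (.w, .w, .e), .e, .w),
   (46, (.w, .o, .o), .e, .e),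
   (66, (.v, .w, .e), .e, .v),
   (49, (.v, .o, .o), .w, .v),
   (52, (.e, .o, .v), .w, .e),
   (103, (.v, .w, .o), .e, .e),
   (22, (.o, .o, .e), .e, .e),
   (83, (.v, .o, .v), .w, .e),
   (97, (.o, .o, .o), .e, .e),
   (70, (.v, .e, .w), .v, .e),
   (96, (.w, .w, .e), .e, .w),
   (80, (.o, .w, .v), .e, .e),
   (71, (.w, .o, .o), .e, .e),
   (19, (.o, .o, .o), .e, .e),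
   (55, (.o, .o, .e), .e, .e),
   (84, (.v, .v, .e), .e, .v),
   (75, (.e, .v, .o), .w, .e),
   (87, (.w, .w, .o), .v, .e),
   (85, (.o, .w, .w), .e, .e),
   (59, (.o, .o, .e), .e, .e),
   (69, (.v, .v, .o), .w, .w),
   (89, (.w, .w, .e), .e, .w),
   (95, (.v, .v, .e), .e, .v),
   (88, (.o, .o, .o), .e, .e),
   (25, (.o, .o, .o), .e, .e),
   (64, (.v, .e, .w), .e, .e),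
   (76, (.e, .w, .e), .e, .w),
   (100, (.o, .o, .o), .e, .e),
   (65, (.o, .v, .o), .e, .w),
   (68, (.v, .e, .e), .e, .e),
   (39, (.w, .o, .o), .e, .e)]

/-- Schreier data -/
def sch3 : List (ℕ × Tri × K4 × K4) :=
  [(0, (.w, .v, .o), .e, .e),
   (5, (.o, .v, .o), .e, .e),
   (26, (.v, .o, .e), .e, .e),
   (13, (.v, .o, .o), .e, .e),
   (15, (.o, .o, .v), .e, .e),
   (1, (.o, .w, .e), .e, .e),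
   (77, (.e, .w, .v), .e, .e),
   (82, (.o, .o, .o), .e, .e),
   (9, (.e, .o, .v), .e, .e),
   (8, (.o, .o, .w), .e, .e),
   (67, (.w, .o, .w), .e, .e),
   (31, (.v, .o, .o), .e, .e),
   (63, (.o, .e, .e), .e, .e),
   (11, (.v, .o, .o), .e, .e),
   (21, (.e, .v, .e), .e, .e),
   (4, (.o, .e, .w), .e, .e),
   (53, (.w, .v, .w), .v, .e),
   (48, (.o, .o, .o), .e, .e),
   (37, (.e, .e, .o), .e, .e),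
   (42, (.o, .o, .o), .e, .e),
   (40, (.o, .v, .v), .e, .e),
   (20, (.o, .w, .w), .e, .e),
   (99, (.o, .o, .e), .e, .e),
   (101, (.o, .o, .o), .e, .e),
   (93, (.o, .o, .e), .e, .e),
   (80, (.o, .o, .o), .e, .e),
   (2, (.w, .o, .o), .e, .e),
   (33, (.o, .e, .e), .e, .e),
   (35, (.w, .e, .o), .e, .v),
   (27, (.e, .o, .e), .e, .e),
   (96, (.w, .w, .e), .e, .w),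
   (3, (.v, .o, .o), .e, .e),
   (102, (.e, .e, .o), .e, .e),
   (34, (.e, .o, .o), .e, .e),
   (29, (.o, .e, .e), .e, .e),
   (62, (.v, .w, .e), .e, .v),
   (28, (.v, .v, .w), .e, .w),
   (38, (.e, .o, .e), .e, .e),
   (50, (.o, .e, .e), .e, .e),
   (25, (.o, .o, .o), .e, .e),
   (14, (.e, .w, .v), .e, .e),
   (86, (.o, .o, .o), .e, .e),
   (46, (.o, .o, .o), .e, .e),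
   (51, (.o, .e, .e), .e, .e),
   (43, (.o, .w, .w), .e, .e),
   (71, (.w, .w, .v), .e, .e),
   (84, (.o, .o, .o), .e, .e),
   (97, (.o, .o, .o), .e, .e),
   (41, (.o, .o, .o), .e, .e),
   (44, (.o, .e, .o), .v, .w),
   (18, (.o, .o, .o), .e, .e),
   (49, (.o, .e, .e), .w, .v),
   (57, (.o, .o, .e), .e, .e),
   (6, (.v, .o, .o), .w, .e),
   (65, (.e, .w, .v), .v, .w),
   (68, (.o, .o, .e), .e, .e),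
   (39, (.o, .o, .o), .e, .e),
   (70, (.e, .e, .e), .e, .e),
   (55, (.o, .o, .e), .e, .e),
   (90, (.w, .w, .v), .v, .e),
   (83, (.v, .o, .v), .w, .e),
   (104, (.e, .v, .e), .e, .v),
   (36, (.e, .e, .o), .e, .w),
   (10, (.e, .o, .e), .e, .e),
   (54, (.w, .e, .w), .w, .e),
   (92, (.o, .e, .e), .e, .v),
   (58, (.e, .e, .o), .e, .e),
   (12, (.v, .e, .e), .e, .e),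
   (66, (.e, .e, .e), .e, .e),
   (52, (.o, .o, .e), .e, .e),
   (69, (.e, .e, .o), .e, .e),
   (81, (.w, .o, .o), .e, .e),
   (45, (.o, .o, .e), .e, .w),
   (88, (.e, .o, .o), .e, .e),
   (75, (.o, .w, .e), .e, .w),
   (89, (.v, .w, .v), .e, .w),
   (73, (.v, .v, .w), .e, .v),
   (16, (.e, .v, .e), .e, .e),
   (60, (.e, .o, .w), .w, .e),
   (100, (.o, .v, .w), .e, .e),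
   (56, (.o, .o, .o), .e, .e),
   (72, (.o, .v, .e), .e, .v),
   (23, (.o, .o, .o), .e, .e),
   (94, (.e, .v, .w), .w, .v),
   (19, (.o, .o, .o), .e, .e),
   (61, (.w, .v, .o), .e, .w),
   (17, (.o, .o, .o), .e, .e),
   (74, (.v, .v, .e), .e, .v),
   (103, (.v, .e, .w), .e, .e),
   (87, (.v, .v, .e), .e, .v),
   (95, (.v, .v, .o), .w, .e),
   (59, (.w, .w, .o), .v, .e),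
   (64, (.v, .e, .v), .e, .e),
   (30, (.o, .o, .e), .e, .e),
   (78, (.e, .w, .v), .e, .w),
   (91, (.v, .v, .w), .w, .e),
   (24, (.v, .v, .e), .e, .v),
   (79, (.o, .v, .w), .e, .e),
   (85, (.o, .w, .v), .e, .e),
   (32, (.e, .e, .e), .e, .e),
   (47, (.o, .o, .o), .e, .e),
   (7, (.o, .o, .o), .e, .e),
   (22, (.o, .o, .e), .e, .e),
   (76, (.v, .e, .o), .e, .w),
   (98, (.w, .o, .o), .e, .e)]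

end Cfsg.Agent.H50.LinFour
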