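/-
The cocycle on the Borel subgroup, corestricted to the special linear group: a cover with kernel
`ℤ/4 × ℤ/4`.
-/
import Cfsg.Agent.H50.LinFour.Data
import Cfsg.Agent.H50.CocycleExt
import Cfsg.Agent.Linear.Order
import Cfsg.Prelude.Def_KGroupFacts

set_option autoImplicit false
set_option maxRecDepth 100000

namespace Cfsg.Agent.H50.LinFour

open Matrix MulAction
open scoped commutatorElement

local notation "S" => SpecialLinearGroup (Fin 3) K4

/-- product of coded matrices -/
def M3.mul (x y : M3) : M3 :=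
  ⟨x.a00 * y.a00 + x.a01 * y.a10 + x.a02 * y.a20, x.a00 * y.a01 + x.a01 * y.a11 + x.a02 * y.a21,
    x.a00 * y.a02 + x.a01 * y.a12 + x.a02 * y.a22,
    x.a10 * y.a00 + x.a11 * y.a10 + x.a12 * y.a20, x.a10 * y.a01 + x.a11 * y.a11 + x.a12 * y.a21,
    x.a10 * y.a02 + x.a11 * y.a12 + x.a12 * y.a22,
    x.a20 * y.a00 + x.a21 * y.a10 + x.a22 * y.a20, x.a20 * y.a01 + x.a21 * y.a11 + x.a22 * y.a21,
    x.a20 * y.a02 + x.a21 * y.a12 + x.a22 * y.a22⟩

/-- the matrix -/
def M3.mat (x : M3) : Matrix (Fin 3) (Fin 3) K4 :=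
  !![x.a00, x.a01, x.a02; x.a10, x.a11, x.a12; x.a20, x.a21, x.a22]

theorem M3.mat_mul (x y : M3) : (x.mul y).mat = x.mat * y.mat := by
  ext i j
  fin_cases i <;> fin_cases j <;> simp [M3.mat, M3.mul, Matrix.mul_apply, Fin.sum_univ_three]

/-- the determinant -/
def M3.detc (x : M3) : K4 :=
  x.a00 * x.a11 * x.a22 + x.a00 * x.a12 * x.a21 + x.a01 * x.a10 * x.a22 + x.a01 * x.a12 * x.a20 +
    x.a02 * x.a10 * x.a21 + x.a02 * x.a11 * x.a20

theorem M3.det_mat (x : M3) : x.mat.det = x.detc := by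
  rw [Matrix.det_fin_three]
  simp [M3.mat, M3.detc, CharTwo.sub_eq_add]

/-- unit matrix -/
def M3.one : M3 := ⟨.e, .o, .o, .o, .e, .o, .o, .o, .e⟩

theorem M3.mat_one : M3.one.mat = 1 := by decide +kernel

/-- coded Borel element -/
def M3.bor (u : Tri) (r s : K4) : M3 :=
  ⟨r, u.1 * s, (u.2.2 + u.1 * u.2.1) * (r * r * (s * s)), 0, s, u.2.1 * (r * r * (s * s)),
    0, 0, r * r * (s * s)⟩

theorem M3.mat_bor (u : Tri) (r s : K4) : (M3.bor u r s).mat = borelMat u r s := rfl

/-- the representatives -/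
def repAt (i : Fin 105) : M3 × M3 := repList.getD i.1 (M3.one, M3.one)

theorem repList_length : repList.length = 105 := by decide +kernel

theorem rep_ok : ∀ i, (repAt i).1.detc = 1 ∧ (repAt i).2.mul (repAt i).1 = M3.one ∧
    (repAt i).2.detc = 1 := by decide +kernel

/-- upper triangular test for a product -/
def upperTest (x y : M3) : Bool :=
  decide (x.a10 * y.a00 + x.a11 * y.a10 + x.a12 * y.a20 = 0) &&
    (decide (x.a20 * y.a00 + x.a21 * y.a10 + x.a22 * y.a20 = 0) &&
      decide (x.a20 * y.a01 + x.a21 * y.a11 + x.a22 * y.a21 = 0))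

/-- all pairs of distinct representatives lie in distinct cosets -/
def distinctOk : Bool :=
  repList.zipIdx.all fun p => repList.zipIdx.all fun q =>
    (p.2 == q.2) || !upperTest p.1.2 q.1.1

theorem distinctOk_eq : distinctOk = true := by decide +kernel

/-- the representatives in the group -/
def repS (i : Fin 105) : S := ⟨(repAt i).1.mat, (M3.det_mat _).trans (rep_ok i).1⟩

theorem repS_inv (i : Fin 105) : ((repS i)⁻¹ : S).1 = (repAt i).2.mat := by
  let r' : S := ⟨(repAt i).2.mat, (M3.det_mat _).trans (rep_ok i).2.2⟩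
  have h : r' * repS i = 1 := Subtype.ext (by
      rw [Matrix.SpecialLinearGroup.coe_mul, repS, ← M3.mat_mul, (rep_ok i).2.1, M3.mat_one]
      rfl)
  rw [← eq_inv_of_mul_eq_one_left h]

theorem rep_injective {i j : Fin 105} (h : (repS i)⁻¹ * repS j ∈ borel) : i = j := by
  by_contra hne
  have hlen : ∀ k : Fin 105, k.1 < repList.length := fun k => repList_length.symm ▸ k.2
  have hmem : ∀ k : Fin 105, (repAt k, k.1) ∈ repList.zipIdx := fun k => by
    rw [List.mem_zipIdx_iff_getElem?, repAt, List.getD_eq_getElem?_getD,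
      List.getElem?_eq_getElem (hlen k), Option.getD_some]
  have hd := distinctOk_eq
  simp only [distinctOk, List.all_eq_true] at hd
  have h' := hd _ (hmem i) _ (hmem j)
  simp only [Bool.or_eq_true, beq_iff_eq, Bool.not_eq_true'] at h'
  rcases h' with h' | h'
  · exact hne (Fin.ext h')
  obtain ⟨h1, h2, h3⟩ := h
  rw [Matrix.SpecialLinearGroup.coe_mul, repS_inv] at h1 h2 h3
  have e : upperTest (repAt i).2 (repAt j).1 = true := by
    simp only [upperTest, Bool.and_eq_true, decide_eq_true_eq]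
    simp only [repS, M3.mat, Matrix.mul_apply, Fin.sum_univ_three] at h1 h2 h3
    exact ⟨by simpa using h1, by simpa using h2, by simpa using h3⟩
  rw [h'] at e
  exact Bool.false_ne_true e

theorem card_borel : Nat.card borel = 576 := by
  let f : Tri × K4ˣ × K4ˣ → borel := fun p => ⟨borelEl p.1 p.2.1 p.2.2, by
    refine ⟨?_, ?_, ?_⟩ <;> simp [borelEl, borelMat]⟩
  have hf : Function.Bijective f := by
    refine ⟨fun p q h => ?_, fun ⟨g, hg⟩ => ?_⟩
    · have h' : borelMat p.1 (p.2.1 : K4) p.2.2 = borelMat q.1 (q.2.1 : K4) q.2.2 :=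
        congrArg (fun g : borel => g.1.1) h
      have hu := congrArg co h'
      rw [co_borelMat _ p.2.1.ne_zero p.2.2.ne_zero, co_borelMat _ q.2.1.ne_zero q.2.2.ne_zero] at hu
      refine Prod.ext hu (Prod.ext (Units.ext ?_) (Units.ext ?_))
      · simpa [borelMat] using congrArg (fun m : Matrix (Fin 3) (Fin 3) K4 => m 0 0) h'
      · simpa [borelMat] using congrArg (fun m : Matrix (Fin 3) (Fin 3) K4 => m 1 1) h'
    · obtain ⟨u, r, s, rfl⟩ := exists_borelEl hg
      exact ⟨(u, r, s), rfl⟩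
  rw [← Nat.card_congr (Equiv.ofBijective f hf), Nat.card_prod, Nat.card_prod, Nat.card_prod,
    Nat.card_prod, Nat.card_units, Nat.card_eq_fintype_card, K4.card]

theorem rep_bijective : Function.Bijective fun i => (repS i : S ⧸ borel) := by
  have hinj : Function.Injective fun i => (repS i : S ⧸ borel) := fun i j h =>
    rep_injective (QuotientGroup.eq.1 h)
  refine (Nat.bijective_iff_injective_and_card _).2 ⟨hinj, ?_⟩
  have h := borel.card_mul_index
  rw [Linear.card_SL_three, card_borel, K4.card] at h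
  have hi : borel.index = 105 := by norm_num at h; omega
  rw [Nat.card_eq_fintype_card, Fintype.card_fin]
  exact hi.symm

/-- indexing of the cosets -/
noncomputable def cosetIdx : Fin 105 ≃ S ⧸ borel := Equiv.ofBijective _ rep_bijective

noncomputable instance : Fintype (S ⧸ borel) := Fintype.ofEquiv _ cosetIdx

/-- the transversal -/
noncomputable def transversal (p : S ⧸ borel) : S := repS (cosetIdx.symm p)

theorem transversal_spec (p : S ⧸ borel) : transversal p • ((1 : S) : S ⧸ borel) = p := by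
  rw [MulAction.Quotient.smul_coe, smul_eq_mul, mul_one]
  exact cosetIdx.apply_symm_apply p

theorem stab_le {x : S} (hx : x ∈ stabilizer S ((1 : S) : S ⧸ borel)) : x ∈ borel := by
  rw [mem_stabilizer_iff, MulAction.Quotient.smul_coe, smul_eq_mul, mul_one, QuotientGroup.eq] at hx
  simpa using inv_mem hx

/-- the cocycle on the whole group -/
noncomputable def cocycle : Cocycle S C44 :=
  cores transversal transversal_spec bcoc (fun x _ => bcoc_one x)
    (fun _ hx _ hy _ hz => bcoc_assoc (stab_le hx) (stab_le hy) (stab_le hz))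

/-- a table of Schreier data is correct for an element -/
def tableOk (g : M3) (T : List (ℕ × Tri × K4 × K4)) : Prop :=
  ∀ i : Fin 105, let t := T.getD i.1 (0, (0, 0, 0), 0, 0)
    t.1 < 105 ∧ t.2.2.1 ≠ 0 ∧ t.2.2.2 ≠ 0 ∧
      g.mul (repAt i).1 = (repList.getD t.1 (M3.one, M3.one)).1.mul (M3.bor t.2.1 t.2.2.1 t.2.2.2)

instance (g : M3) (T : List (ℕ × Tri × K4 × K4)) : Decidable (tableOk g T) := by
  unfold tableOk; infer_instance

/-- entry of a table -/
def entry (T : List (ℕ × Tri × K4 × K4)) (i : ℕ) : ℕ × Tri × K4 × K4 := T.getD i (0, (0, 0, 0), 0, 0)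

/-- the summand computed from the tables -/
def term (Tg Th : List (ℕ × Tri × K4 × K4)) (i : ℕ) : C44 :=
  let b := entry Th i
  let a := entry Tg b.1
  coc a.2.1 (act (a.2.2.1 * (a.2.2.2 * a.2.2.2)) b.2.1)

theorem schreier_table {g : S} {G : M3} {T : List (ℕ × Tri × K4 × K4)} (hG : g.1 = G.mat)
    (hT : tableOk G T) (i : Fin 105) :
    ∃ h : (entry T i.1).1 < 105, g • cosetIdx i = cosetIdx ⟨_, h⟩ ∧
      co (schreier transversal g (cosetIdx i)).1 = (entry T i.1).2.1 ∧
      lam (schreier transversal g (cosetIdx i)).1 =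
        (entry T i.1).2.2.1 * ((entry T i.1).2.2.2 * (entry T i.1).2.2.2) := by
  obtain ⟨h, hr, hs, he⟩ := hT i
  refine ⟨h, ?_⟩
  set j : Fin 105 := ⟨_, h⟩
  set b : S := borelEl (entry T i.1).2.1 (Units.mk0 _ hr) (Units.mk0 _ hs) with hb
  have e : g * repS i = repS j * b := by
    refine Subtype.ext ?_
    show g.1 * (repAt i).1.mat = (repAt j).1.mat * borelMat _ _ _
    rw [hG, ← M3.mat_bor, ← M3.mat_mul, ← M3.mat_mul]
    exact congrArg M3.mat he
  have hbm : b ∈ borel := by refine ⟨?_, ?_, ?_⟩ <;> simp [hb, borelEl, borelMat]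
  have hsm : g • cosetIdx i = cosetIdx j := by
    show ((g * repS i : S) : S ⧸ borel) = (repS j : S ⧸ borel)
    rw [e]
    exact QuotientGroup.mk_mul_of_mem _ hbm
  refine ⟨hsm, ?_⟩
  have hsc : schreier transversal g (cosetIdx i) = b := by
    rw [schreier, hsm, transversal, transversal, Equiv.symm_apply_apply, Equiv.symm_apply_apply,
      mul_assoc, e, inv_mul_cancel_left]
  rw [hsc]
  refine ⟨co_borelMat _ hr hs, ?_⟩
  simp [hb, borelEl, borelMat, lam]
  rfl

theorem cocycle_table {g h : S} {G H : M3} {Tg Th : List (ℕ × Tri × K4 × K4)} (hG : g.1 = G.mat)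
    (hH : h.1 = H.mat) (hTg : tableOk G Tg) (hTh : tableOk H Th) :
    cocycle.f g h = ∑ i : Fin 105, term Tg Th i.1 := by
  show ∑ p, bcoc (schreier transversal g (h • p)) (schreier transversal h p) = _
  rw [← Equiv.sum_comp cosetIdx]
  refine Finset.sum_congr rfl fun i _ => ?_
  obtain ⟨hj, e, eu, -⟩ := schreier_table hH hTh i
  obtain ⟨-, -, fu, fl⟩ := schreier_table hG hTg ⟨_, hj⟩
  rw [bcoc, e, eu, fu, fl]
  rfl

end Cfsg.Agent.H50.LinFour
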