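/-
The cover is a stem extension of the projective group with kernel of order 48.
-/
import Cfsg.Agent.H50.LinFour.Cover
import Cfsg.Agent.Linear.Simple

set_option autoImplicit false
set_option maxRecDepth 100000

namespace Cfsg.Agent.H50.LinFour

open Matrix
open scoped commutatorElement

local notation "S" => SpecialLinearGroup (Fin 3) K4

theorem table_ok0 : tableOk (M3.bor (.e, .e, .o) 1 1) sch0 := by decide +kernel
theorem table_ok1 : tableOk (M3.bor (.w, .w, .o) 1 1) sch1 := by decide +kernel
theorem table_ok2 : tableOk (M3.bor (.e, .w, .o) 1 1) sch2 := by decide +kernel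
theorem table_ok3 : tableOk (M3.bor (.w, .v, .o) 1 1) sch3 := by decide +kernel

theorem sum01 : ∑ i : Fin 105, term sch0 sch1 i.1 - ∑ i : Fin 105, term sch1 sch0 i.1 = (3, 2) := by
  decide +kernel
theorem sum23 : ∑ i : Fin 105, term sch2 sch3 i.1 - ∑ i : Fin 105, term sch3 sch2 i.1 = (2, 1) := by
  decide +kernel

theorem comm01 : (M3.bor (.e, .e, .o) 1 1).mul (M3.bor (.w, .w, .o) 1 1) =
    (M3.bor (.w, .w, .o) 1 1).mul (M3.bor (.e, .e, .o) 1 1) := by decide +kernel
theorem comm23 : (M3.bor (.e, .w, .o) 1 1).mul (M3.bor (.w, .v, .o) 1 1) =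
    (M3.bor (.w, .v, .o) 1 1).mul (M3.bor (.e, .w, .o) 1 1) := by decide +kernel

theorem mem_commutator_of_pair {G H : M3} {g h : S} {Tg Th : List (ℕ × Tri × K4 × K4)}
    (hG : g.1 = G.mat) (hH : h.1 = H.mat) (hTg : tableOk G Tg) (hTh : tableOk H Th)
    (hc : G.mul H = H.mul G) {α : C44}
    (hα : ∑ i : Fin 105, term Tg Th i.1 - ∑ i : Fin 105, term Th Tg i.1 = α) :
    (⟨α, 1⟩ : cocycle.Ext) ∈ commutator cocycle.Ext := by
  have hgh : g * h = h * g := Subtype.ext (by
    rw [Matrix.SpecialLinearGroup.coe_mul, Matrix.SpecialLinearGroup.coe_mul, hG, hH, ← M3.mat_mul,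
      ← M3.mat_mul, hc])
  rw [cocycle.commutator_lift hgh α (by
    rw [cocycle_table hG hH hTg hTh, cocycle_table hH hG hTh hTg, hα]), _root_.commutator_def]
  exact Subgroup.commutator_mem_commutator (Subgroup.mem_top _) (Subgroup.mem_top _)

theorem span_pairs : ∀ x : C44, ∃ i j : Fin 4, i.1 • ((3, 2) : C44) + j.1 • ((2, 1) : C44) = x := by
  decide +kernel

theorem proj_ker_le : cocycle.proj.ker ≤ commutator cocycle.Ext := by
  intro x hx
  obtain ⟨α, g⟩ := x
  obtain rfl : g = 1 := hx
  have hbor : ∀ u : Tri, (borelEl u 1 1).1 = (M3.bor u 1 1).mat := fun u => rfl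
  have h1 := mem_commutator_of_pair (hbor _) (hbor _) table_ok0 table_ok1 comm01 sum01
  have h2 := mem_commutator_of_pair (hbor _) (hbor _) table_ok2 table_ok3 comm23 sum23
  have hmem : ∀ β : C44, (⟨β, 1⟩ : cocycle.Ext) ∈ commutator cocycle.Ext →
      β ∈ ((commutator cocycle.Ext).subgroupOf cocycle.proj.ker |>.map
        cocycle.kerEquiv.toMonoidHom).toAddSubgroup' := fun β hβ =>
    ⟨⟨⟨β, 1⟩, rfl⟩, hβ, rfl⟩
  obtain ⟨i, j, rfl⟩ := span_pairs α
  obtain ⟨⟨y, hy⟩, hy1, hy2⟩ := add_mem (nsmul_mem (hmem _ h1) i.1) (nsmul_mem (hmem _ h2) j.1)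
  have hy2' : y.a = i.1 • ((3, 2) : C44) + j.1 • ((2, 1) : C44) := hy2
  have e : y = ⟨i.1 • ((3, 2) : C44) + j.1 • ((2, 1) : C44), 1⟩ :=
    Cocycle.Ext.ext hy2' (MonoidHom.mem_ker.1 hy)
  exact e ▸ hy1

theorem mem_center_of_commutators {E : Type*} [Group E] (hp : commutator E = ⊤) (x : E)
    (hz : ∀ y, ⁅x, y⁆ ∈ Subgroup.center E) : x ∈ Subgroup.center E := by
  let f : E →* Subgroup.center E :=
    { toFun := fun y => ⟨⁅x, y⁆, hz y⟩
      map_one' := Subtype.ext (commutatorElement_one_right x)
      map_mul' := fun y y' => Subtype.ext (by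
        have h1 : ⁅x, y * y'⁆ = ⁅x, y⁆ * (y * ⁅x, y'⁆ * y⁻¹) := by
          simp only [commutatorElement_def]; group
        show ⁅x, y * y'⁆ = ⁅x, y⁆ * ⁅x, y'⁆
        rw [h1, Subgroup.mem_center_iff.1 (hz y') y, mul_inv_cancel_right]) }
  rw [Subgroup.mem_center_iff]
  intro y
  let _ : CommGroup (Subgroup.center E) :=
    { (inferInstance : Group (Subgroup.center E)) with
      mul_comm := fun a b => Subtype.ext (Subgroup.mem_center_iff.1 b.2 a) }
  have hy : y ∈ f.ker := Abelianization.commutator_subset_ker f (hp ▸ Subgroup.mem_top y)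
  exact (commutatorElement_eq_one_iff_mul_comm.1 (congrArg Subtype.val (MonoidHom.mem_ker.1 hy))).symm

attribute [local irreducible] cores

/-- the extension of the projective group -/
noncomputable def toPSL : cocycle.Ext →* ProjectiveSpecialLinearGroup (Fin 3) K4 :=
  (QuotientGroup.mk' _).comp cocycle.proj

theorem perfect_SL : commutator S = ⊤ :=
  Cfsg.Agent.Linear.commutator_SL_eq_top (Or.inl (by simp))

theorem perfect : commutator cocycle.Ext = ⊤ := by
  refine eq_top_iff.2 fun x _ => ?_
  have h : cocycle.proj x ∈ (commutator cocycle.Ext).map cocycle.proj := by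
    rw [map_commutator_eq, MonoidHom.range_eq_top.2 cocycle.proj_surjective, ← _root_.commutator_def,
      perfect_SL]
    exact Subgroup.mem_top _
  obtain ⟨y, hy, hyx⟩ := h
  have hk : y⁻¹ * x ∈ cocycle.proj.ker := by rw [MonoidHom.mem_ker, map_mul, map_inv, hyx, inv_mul_cancel]
  have := mul_mem hy (proj_ker_le hk)
  rwa [mul_inv_cancel_left] at this

theorem isStemExtension : Cfsg.IsStemExtension toPSL := by
  refine ⟨(QuotientGroup.mk'_surjective _).comp cocycle.proj_surjective, fun x hx => ?_,
    fun x _ => perfect ▸ Subgroup.mem_top x⟩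
  refine mem_center_of_commutators perfect x fun y => cocycle.ker_le_center (MonoidHom.mem_ker.2 ?_)
  rw [map_commutatorElement, commutatorElement_eq_one_iff_mul_comm]
  have : cocycle.proj x ∈ Subgroup.center S := (QuotientGroup.eq_one_iff _).1 hx
  exact (Subgroup.mem_center_iff.1 this _).symm

theorem card_center : Nat.card (Subgroup.center S) = 3 := by
  rw [Nat.card_congr (SpecialLinearGroup.center_equiv_rootsOfUnity (n := Fin 3) (R := K4)).toEquiv]
  have h : rootsOfUnity (max (Fintype.card (Fin 3)) 1) K4 = ⊤ := by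
    refine eq_top_iff.2 fun u _ => Units.ext ?_
    simp only [Fintype.card_fin, Units.val_pow_eq_pow_val, Units.val_one]
    have := K4.cube u.ne_zero
    rw [show max 3 1 = 3 from rfl, pow_three]
    linear_combination this
  rw [h, Nat.card_congr Subgroup.topEquiv.toEquiv, Nat.card_units, Nat.card_eq_fintype_card, K4.card]

theorem card_ker : Nat.card toPSL.ker = 48 := by
  have h := Subgroup.card_eq_card_quotient_mul_card_subgroup toPSL.ker
  have h2 := Subgroup.card_eq_card_quotient_mul_card_subgroup cocycle.proj.ker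
  have h3 := Subgroup.card_eq_card_quotient_mul_card_subgroup (Subgroup.center S)
  rw [card_center] at h3
  rw [Nat.card_congr (QuotientGroup.quotientKerEquivOfSurjective _ cocycle.proj_surjective).toEquiv,
    Nat.card_congr cocycle.kerEquiv.toEquiv] at h2
  rw [Nat.card_congr (QuotientGroup.quotientKerEquivOfSurjective toPSL isStemExtension.1).toEquiv,
    h2, h3, show Nat.card (Multiplicative C44) = 16 by
      rw [Nat.card_congr Multiplicative.toAdd]; simp] at h
  have hpos : 0 < Nat.card (ProjectiveSpecialLinearGroup (Fin 3) K4) := Nat.card_pos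
  nlinarith

theorem zmod_three_pow (a : Multiplicative (ZMod 3)) : a ^ 3 = 1 := by revert a; decide +kernel

theorem zmod_three_gen (a : Multiplicative (ZMod 3)) (h : a ≠ 1) :
    a = Multiplicative.ofAdd (1 : ZMod 3) ∨ a⁻¹ = Multiplicative.ofAdd (1 : ZMod 3) := by
  revert a; decide +kernel

theorem c44_pow_three (b : Multiplicative C44) (h : b ^ 3 = 1) : b = 1 := by revert b; decide +kernel

theorem exists_prod_equiv {K : Type*} [CommGroup K] [Finite K] (hK : Nat.card K = 48)
    (j : Multiplicative C44 →* K) (hj : Function.Injective j) :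
    Nonempty (K ≃* Multiplicative (ZMod 3 × ZMod 4 × ZMod 4)) := by
  have : Fact (Nat.Prime 3) := ⟨Nat.prime_three⟩
  obtain ⟨z, hz⟩ := exists_prime_orderOf_dvd_card' (G := K) 3 (by rw [hK]; norm_num)
  have hz3 : z ^ 3 = 1 := by rw [← hz]; exact pow_orderOf_eq_one z
  let k : ZMod 3 →+ Additive K := ZMod.lift 3 ⟨zmultiplesHom (Additive K) (Additive.ofMul z), by
    rw [zmultiplesHom_apply, natCast_zsmul, ← ofMul_pow, hz3]; rfl⟩
  let k' : Multiplicative (ZMod 3) →* K := k.toMultiplicativeLeft
  have hk : k' (Multiplicative.ofAdd (1 : ZMod 3)) = z := by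
    show Additive.toMul (k ((1 : ℤ) : ZMod 3)) = z
    rw [ZMod.lift_coe]
    simp
  let F : Multiplicative (ZMod 3) × Multiplicative C44 →* K := k'.coprod j
  have hinj : Function.Injective F := by
    rw [injective_iff_map_eq_one]
    rintro ⟨a, b⟩ hab
    have hab' : k' a * j b = 1 := hab
    have hj3 : j b ^ 3 = 1 := by
      have h := congrArg (· ^ 3) hab'
      simp only [mul_pow, one_pow] at h
      rwa [← map_pow, zmod_three_pow, map_one, one_mul] at h
    have hb : b = 1 := c44_pow_three b (hj (by rw [map_pow, map_one, hj3]))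
    subst hb
    rw [map_one, mul_one] at hab'
    have ha : a = 1 := by
      by_contra hne
      have hz1 : z = 1 := by
        rcases zmod_three_gen a hne with hg | hg
        · rwa [hg, hk] at hab'
        · rw [← hk, ← hg, map_inv, hab', inv_one]
      rw [hz1, orderOf_one] at hz
      omega
    rw [ha]; rfl
  have hbij : Function.Bijective F := by
    refine (Nat.bijective_iff_injective_and_card _).2 ⟨hinj, ?_⟩
    rw [hK, Nat.card_prod, Nat.card_congr Multiplicative.toAdd, Nat.card_congr Multiplicative.toAdd]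
    simp
  exact ⟨(MulEquiv.ofBijective F hbij).symm.trans (MulEquiv.prodMultiplicative (ZMod 3) C44).symm⟩

theorem exists_equiv : Nonempty (toPSL.ker ≃* Multiplicative (ZMod 3 × ZMod 4 × ZMod 4)) := by
  let _ : CommGroup toPSL.ker := { (inferInstance : Group toPSL.ker) with
    mul_comm := fun a b => Subtype.ext (Subgroup.mem_center_iff.1 (isStemExtension.2.1 b.2) a) }
  have hle : cocycle.proj.ker ≤ toPSL.ker := fun x hx => by
    rw [MonoidHom.mem_ker, toPSL, MonoidHom.comp_apply, MonoidHom.mem_ker.1 hx, map_one]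
  exact exists_prod_equiv card_ker ((Subgroup.inclusion hle).comp cocycle.kerEquiv.symm.toMonoidHom)
    ((Subgroup.inclusion_injective hle).comp cocycle.kerEquiv.symm.injective)

end Cfsg.Agent.H50.LinFour
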